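import Cfsg.Agent.Lib.Char.CliffordCorrespondence
import Cfsg.Agent.Lib.Char.Descend
import Cfsg.Agent.Lib.Char.RealChar
import Cfsg.Agent.Lib.Char.IndIndicator
import Cfsg.Agent.Lib.Char.Linear
import Mathlib.GroupTheory.Transfer

/-!
# Characters of odd degree

Parity lemmas: a (real) character of odd degree has a (real) irreducible constituent of odd
degree; an odd-degree irreducible character of a 2-group is linear; inertia groups below an
odd-degree character have odd index; extension of invariant sign characters by transfer.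
-/

set_option autoImplicit false
set_option linter.style.haveILetI false
set_option linter.unusedSectionVars false

namespace Cfsg.Agent.OddDeg

open Cfsg
open scoped ComplexConjugate

universe u

variable {G : Type u} [Group G] [Finite G]

/-- All values are real. -/
def RealVal {G : Type u} (χ : G → ℂ) : Prop := ∀ g, conj (χ g) = χ g

omit [Group G] [Finite G] in
theorem realVal_iff_im {χ : G → ℂ} : RealVal χ ↔ ∀ g, (χ g).im = 0 :=
  forall_congr' fun _ => Complex.conj_eq_iff_im

theorem charDegree_mul {a b : ℕ} {χ : IrrCharacter G} (h : χ.1 1 = (a : ℂ) * (b : ℂ)) :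
    charDegree χ.1 = a * b := by
  rw [← Char.charDegree_cast χ] at h
  exact_mod_cast h

/-- A finite set with odd weight has a fixed point of odd weight under a weight preserving
involution. -/
theorem exists_fixed_of_odd {α : Type*} (s : Finset α) (f : α → α) (hf : ∀ a ∈ s, f a ∈ s)
    (hff : ∀ a ∈ s, f (f a) = a) (w : α → ℕ) (hw : ∀ a ∈ s, w (f a) = w a)
    (h : Odd (∑ a ∈ s, w a)) : ∃ a ∈ s, f a = a ∧ Odd (w a) := by
  classical
  by_contra hne
  push Not at hne
  have h0 : ∑ a ∈ s, (w a : ZMod 2) = 0 := by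
    refine Finset.sum_involution (fun a _ => f a) (fun a ha => ?_) (fun a ha hwa hfa => ?_)
      (fun a ha => hf a ha) (fun a ha => hff a ha)
    · rw [hw a ha, CharTwo.add_self_eq_zero]
    · exact hwa ((ZMod.natCast_eq_zero_iff_even).2 (Nat.not_odd_iff_even.1 (hne a ha hfa)))
  rw [← Nat.cast_sum] at h0
  exact (Nat.not_even_iff_odd.2 h) ((ZMod.natCast_eq_zero_iff_even).1 h0)

section Constituents

variable [Fintype G]

theorem exists_constituent_aux {ψ : G → ℂ} (hψ : IsCharacter G ψ) {d : ℕ} (hd : Odd d)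
    (h1 : ψ 1 = d) (f : IrrCharacter G → IrrCharacter G) (hff : ∀ η, f (f η) = η)
    (hdeg : ∀ η, (f η).1 1 = η.1 1) (hinner : ∀ η, classInner ψ (f η).1 = classInner ψ η.1) :
    ∃ η : IrrCharacter G, f η = η ∧ Odd (charDegree η.1) ∧ classInner ψ η.1 ≠ 0 := by
  classical
  obtain ⟨m, hm, hm'⟩ := Char.IsCharacter.exists_decomp hψ
  have hsum : d = ∑ η : IrrCharacter G, m η * charDegree η.1 := by
    have := congrFun hm 1
    rw [h1, Finset.sum_apply] at this
    simp only [Pi.smul_apply, smul_eq_mul, ← Char.charDegree_cast] at this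
    exact_mod_cast this
  have hmf : ∀ η, m (f η) = m η := fun η => by
    have := hinner η
    rw [hm', hm'] at this
    exact_mod_cast this
  have hdf : ∀ η : IrrCharacter G, charDegree (f η).1 = charDegree η.1 := fun η => by
    rw [charDegree, charDegree, hdeg]
  obtain ⟨η, -, hη, hodd⟩ := exists_fixed_of_odd Finset.univ f (fun _ _ => Finset.mem_univ _)
    (fun a _ => hff a) (fun η => m η * charDegree η.1) (fun a _ => by rw [hmf, hdf]) (hsum ▸ hd)
  rw [Nat.odd_mul] at hodd
  refine ⟨η, hη, hodd.2, ?_⟩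
  rw [hm']
  exact Nat.cast_ne_zero.2 fun h => by rw [h] at hodd; simp at hodd

/-- A character of odd degree has an irreducible constituent of odd degree. -/
theorem exists_odd_constituent {ψ : G → ℂ} (hψ : IsCharacter G ψ) {d : ℕ} (hd : Odd d)
    (h1 : ψ 1 = d) : ∃ η : IrrCharacter G, Odd (charDegree η.1) ∧ classInner ψ η.1 ≠ 0 := by
  obtain ⟨η, -, h⟩ := exists_constituent_aux hψ hd h1 id (fun _ => rfl) (fun _ => rfl) fun _ => rfl
  exact ⟨η, h⟩

/-- A real character of odd degree has a real irreducible constituent of odd degree. -/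
theorem exists_real_odd_constituent {ψ : G → ℂ} (hψ : IsCharacter G ψ) (hr : RealVal ψ) {d : ℕ}
    (hd : Odd d) (h1 : ψ 1 = d) :
    ∃ η : IrrCharacter G, RealVal η.1 ∧ Odd (charDegree η.1) ∧ classInner ψ η.1 ≠ 0 := by
  have hinner : ∀ η : IrrCharacter G, classInner ψ (Char.conjIrr η).1 = classInner ψ η.1 := by
    intro η
    obtain ⟨k, hk⟩ := Char.IsCharacter.exists_nat_classInner hψ (Char.irr_isCharacter η)
    have h2 := congrArg (starRingEnd ℂ) hk
    rw [Complex.conj_natCast, ← hk] at h2
    rw [← h2]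
    simp only [classInner, map_mul, map_inv₀, Complex.conj_natCast, map_sum, Char.conjIrr_apply]
    simp [hr _]
  have hone : ∀ η : IrrCharacter G, (Char.conjIrr η).1 1 = η.1 1 := fun η => by
    rw [Char.conjIrr_apply, ← Char.charDegree_cast, Complex.conj_natCast]
  obtain ⟨η, hη, h⟩ := exists_constituent_aux hψ hd h1 Char.conjIrr Char.conjIrr_conjIrr hone hinner
  exact ⟨η, fun g => congrFun (congrArg Subtype.val hη) g, h⟩

end Constituents

/-- An odd-degree irreducible character of a 2-group is linear. -/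
theorem exists_linear_of_odd (hG : IsPGroup 2 G) (η : IrrCharacter G)
    (h : Odd (charDegree η.1)) : ∃ lam : G →* ℂ, (lam : G → ℂ) = η.1 := by
  haveI : Fact (Nat.Prime 2) := ⟨Nat.prime_two⟩
  obtain ⟨k, hk⟩ := hG.exists_card_eq
  have hdvd := Char.charDegree_dvd_card η
  rw [hk] at hdvd
  obtain ⟨j, -, hj⟩ := (Nat.dvd_prime_pow Nat.prime_two).1 hdvd
  have h1 : charDegree η.1 = 1 := by
    rcases j with _ | j
    · simpa using hj
    · exfalso
      rw [hj, pow_succ, Nat.odd_mul] at h
      exact absurd h.2 (by decide)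
  refine Char.IsCharacter.exists_monoidHom (Char.irr_isCharacter η) ?_
  rw [← Char.charDegree_cast, h1, Nat.cast_one]

section Orbit

variable (N : Subgroup G) [N.Normal]

/-- The data below a character of odd degree. -/
theorem odd_of_constituent [Fintype G] [Fintype N] (χ : IrrCharacter G)
    (hχ : Odd (charDegree χ.1)) (θ : IrrCharacter N)
    (hθ : classInner (Char.resFun N χ.1) θ.1 ≠ 0) :
    Odd (Char.inertia N θ.1).index ∧ Odd (charDegree θ.1) := by
  obtain ⟨m, hm⟩ := Char.IsCharacter.exists_nat_classInner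
    (Char.IsCharacter.restrict (Char.irr_isCharacter χ) N) (Char.irr_isCharacter θ)
  have h := Char.apply_one_eq_mul_card_orbit N χ θ hθ
  rw [show classInner (Char.resFun N χ.1) θ.1 = (m : ℂ) from hm, ← Char.index_inertia,
    ← Char.charDegree_cast θ, ← Nat.cast_mul] at h
  rw [charDegree_mul h, Nat.odd_mul, Nat.odd_mul] at hχ
  exact hχ.2

/-- A real character of odd degree has a real constituent on every normal subgroup. -/
theorem exists_real_constituent [Fintype G] [Fintype N] (χ : IrrCharacter G)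
    (hχ : Odd (charDegree χ.1)) (hr : RealVal χ.1) :
    ∃ θ : IrrCharacter N, RealVal θ.1 ∧ classInner (Char.resFun N χ.1) θ.1 ≠ 0 := by
  obtain ⟨η, h1, -, h3⟩ := exists_real_odd_constituent
    (Char.IsCharacter.restrict (Char.irr_isCharacter χ) N) (fun n : N => hr n) hχ
    (Char.charDegree_cast χ).symm
  exact ⟨η, h1, h3⟩

/-- A 2-subgroup lies in a conjugate of any subgroup of odd index. -/
theorem exists_conj_mem {P I : Subgroup G} (hP : IsPGroup 2 P) (hI : Odd I.index) :
    ∃ g : G, ∀ x ∈ P, g⁻¹ * x * g ∈ I := by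
  haveI : Fact (Nat.Prime 2) := ⟨Nat.prime_two⟩
  obtain ⟨q, hq⟩ := hP.nonempty_fixed_point_of_prime_not_dvd_card (G ⧸ I)
    (fun hd => (Nat.not_even_iff_odd.2 hI) (even_iff_two_dvd.2 hd))
  obtain ⟨g, rfl⟩ := QuotientGroup.mk_surjective q
  refine ⟨g, fun x hx => ?_⟩
  have h := QuotientGroup.eq.1 (hq ⟨x, hx⟩).symm
  show g⁻¹ * x * g ∈ I
  have h' : g⁻¹ * (x * g) ∈ I := h
  rwa [← mul_assoc] at h'

/-- A character of odd degree lies over a character of `N` fixed by a given 2-subgroup. -/
theorem exists_fixed_conj [Fintype G] [Fintype N] {P : Subgroup G} (hP : IsPGroup 2 P)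
    (χ : IrrCharacter G) (hχ : Odd (charDegree χ.1)) (θ : IrrCharacter N)
    (hθ : classInner (Char.resFun N χ.1) θ.1 ≠ 0) :
    ∃ g : G, classInner (Char.resFun N χ.1) (Char.conjChar N θ g).1 ≠ 0 ∧
      P ≤ Char.inertia N (Char.conjChar N θ g).1 := by
  obtain ⟨g, hg⟩ := exists_conj_mem hP (odd_of_constituent N χ hχ θ hθ).1
  refine ⟨g⁻¹, ?_, fun x hx => ?_⟩
  · rw [Char.conjChar_coe, Char.classInner_resFun_conjFun N
      (Char.IsCharacter.isClassFunction (Char.irr_isCharacter χ))]
    exact hθ
  · rw [Char.mem_inertia, Char.conjChar_coe, ← Char.conjFun_mul,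
      show g⁻¹ * x = (g⁻¹ * x * g) * g⁻¹ by group, Char.conjFun_mul,
      (Char.mem_inertia N).1 (hg x hx)]

end Orbit

section Transfer

/-- Transfer of a linear character of a subgroup of index `k`, evaluated on a normal subgroup on
which it is invariant, is the `k`-th power. -/
theorem exists_extension_of_invariant {H L : Subgroup G} [L.Normal] (hLH : L ≤ H) (ν : H →* ℂ)
    (hinv : ∀ (g : G) (a b : H), (a : G) ∈ L → (b : G) = g⁻¹ * a * g → ν b = ν a) :
    ∃ μ : G →* ℂ, (∀ (l : G) (hl : l ∈ L), μ l = ν ⟨l, hLH hl⟩ ^ H.index) ∧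
      ((∀ x, ν x * ν x = 1) → ∀ g, μ g * μ g = 1) := by
  classical
  haveI : Fintype G := Fintype.ofFinite G
  set φ : H →* ℂˣ := ν.toHomUnits with hφ
  refine ⟨(Units.coeHom ℂ).comp (MonoidHom.transfer φ), fun l hl => ?_, fun h g => ?_⟩
  · haveI : Fintype (Quotient (MulAction.orbitRel (Subgroup.zpowers l) (G ⧸ H))) := Fintype.ofFinite _
    show ((MonoidHom.transfer φ l : ℂˣ) : ℂ) = _
    rw [MonoidHom.transfer_eq_prod_quotient_orbitRel_zpowers_quot, Units.coe_prod,
      Subgroup.index_eq_sum_minimalPeriod H l, ← Finset.prod_pow_eq_pow_sum]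
    refine Finset.prod_congr rfl fun q _ => ?_
    set k := Function.minimalPeriod (l • ·) q.out
    show ν _ = _
    rw [← map_pow]
    exact hinv q.out.out _ _ (pow_mem hl k) rfl
  · show ((MonoidHom.transfer φ g : ℂˣ) : ℂ) * ((MonoidHom.transfer φ g : ℂˣ) : ℂ) = 1
    rw [← Units.val_mul]
    have h2 : ∀ a : H, φ a * φ a = 1 := fun a => Units.ext (h a)
    rw [MonoidHom.transfer_def φ default g, Subgroup.leftTransversals.diff,
      ← Finset.prod_mul_distrib, Finset.prod_congr rfl fun q _ => h2 _]
    simp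

end Transfer

end Cfsg.Agent.OddDeg
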