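import Cfsg.Agent.Lib.OddDeg.Solvable

/-!
# Solvable groups all of whose odd-degree irreducible characters are real
-/

set_option autoImplicit false
set_option linter.style.haveILetI false
set_option linter.unusedSectionVars false

namespace Cfsg.Agent.OddDeg

open Cfsg
open scoped ComplexConjugate IsMulCommutative

universe u

variable {G : Type u} [Group G] [Finite G]

/-- All linear characters of the group take values `±1`. -/
def SignLinear (P : Type u) [Group P] : Prop := ∀ ν : P →* ℂ, ∀ x, ν x * ν x = 1

/-- All odd-degree irreducible characters are real. -/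
def AllReal (G : Type u) [Group G] : Prop :=
  ∀ χ : IrrCharacter G, Odd (charDegree χ.1) → RealVal χ.1

theorem signLinear_map {H : Type u} [Group H] (f : G →* H) {P : Subgroup G} (h : SignLinear P) :
    SignLinear (P.map f) := fun ν y => by
  obtain ⟨x, rfl⟩ := toMap_surjective f P y
  exact h (ν.comp (toMap f P)) x

theorem signLinear_subgroupOf {P I : Subgroup G} (hPI : P ≤ I) (h : SignLinear P) :
    SignLinear (P.subgroupOf I) := fun ν y => by
  have := h (ν.comp (Subgroup.subgroupOfEquivOfLe hPI).symm.toMonoidHom)
    (Subgroup.subgroupOfEquivOfLe hPI y)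
  simpa using this

theorem pow_card_pow_ne_one {L : Type u} [Group L] [Finite L] (hL : Odd (Nat.card L)) {lam : L →* ℂ}
    {c : L} (hc : lam c ≠ 1) {n k : ℕ} (hn : n = 2 ^ k) : lam c ^ n ≠ 1 := fun h => by
  refine hc ?_
  have h2 : lam c ^ Nat.card L = 1 := by rw [← map_pow, pow_card_eq_one', map_one]
  have hco : (Nat.card L).Coprime n := hn ▸ (Nat.Coprime.pow_right k hL.coprime_two_right)
  have hd := Nat.dvd_gcd (orderOf_dvd_of_pow_eq_one h2) (orderOf_dvd_of_pow_eq_one h)
  rw [hco.gcd_eq_one, Nat.dvd_one] at hd
  exact orderOf_eq_one_iff.1 hd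

section OddNormal

variable (L : Subgroup G) [L.Normal] [IsMulCommutative L]

theorem commL (a b : L) : a * b = b * a := mul_comm a b

/-- If `N(P) = P`, the only `P`-fixed character of an odd normal abelian subgroup is trivial. -/
theorem fixed_eq_one {P : Subgroup G} (hP : IsPGroup 2 P) (hL : Odd (Nat.card L))
    (hN : Subgroup.normalizer (P : Set G) = P) (θ : L →* ℂ)
    (hθ : P ≤ Char.inertia L (Char.linIrr θ).1) (l : L) : θ l = 1 := by
  classical
  haveI := Fintype.ofFinite P
  set c : L := ∏ x : P, MulAut.conjNormal (x : G) l with hc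
  have hfix : ∀ y ∈ P, y * (c : G) * y⁻¹ = c := by
    intro y hy
    have h : MulAut.conjNormal y c = c := by
      rw [hc, map_prod]
      refine Fintype.prod_equiv (Equiv.mulLeft (⟨y, hy⟩ : P)) _ _ fun x => ?_
      simp [map_mul, MulAut.mul_apply]
    simpa using congrArg Subtype.val h
  have hcP : (c : G) ∈ P := by
    have : (c : G) ∈ Subgroup.normalizer (P : Set G) :=
      mem_normalizer_of_conj_le fun y hy => by
        have h := hfix y hy
        rw [mul_inv_eq_iff_eq_mul] at h
        rw [← h, mul_inv_cancel_right]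
        exact hy
    rwa [hN] at this
  have hc1 : c = 1 := Subtype.ext (eq_one_of_mem_of_mem hP hL hcP c.2)
  have hprod : θ c = θ l ^ Fintype.card P := by
    rw [hc, map_prod, ← Finset.card_univ, ← Finset.prod_const]
    refine Finset.prod_congr rfl fun x _ => ?_
    exact congrFun ((Char.mem_inertia L).1 (hθ x.2)) l
  rw [hc1, map_one] at hprod
  by_contra hne
  obtain ⟨k, hk⟩ : ∃ k, Nat.card P = 2 ^ k := by
    haveI : Fact (Nat.Prime 2) := ⟨Nat.prime_two⟩
    exact hP.exists_card_eq
  exact pow_card_pow_ne_one hL hne (k := k) (by rw [← Nat.card_eq_fintype_card, hk]) hprod.symm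

/-- A `P`-fixed character of `L` nontrivial at a given element centralised by `P`. -/
theorem exists_fixed_ne_one {P : Subgroup G} (hP : IsPGroup 2 P) (hL : Odd (Nat.card L)) {c : L}
    (hc : c ≠ 1) (hcP : ∀ y ∈ P, y * (c : G) * y⁻¹ = c) :
    ∃ θ : L →* ℂ, P ≤ Char.inertia L (Char.linIrr θ).1 ∧ θ c ≠ 1 := by
  classical
  haveI := Fintype.ofFinite P
  haveI : NeZero (Monoid.exponent L : ℂ) := ⟨Nat.cast_ne_zero.2 Monoid.exponent_ne_zero_of_finite⟩
  obtain ⟨φ, hφ⟩ := CommGroup.exists_apply_ne_one_of_hasEnoughRootsOfUnity L ℂ hc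
  let φ' : L →* ℂ := (Units.coeHom ℂ).comp φ
  have hφ' : φ' c ≠ 1 := fun h => hφ (Units.ext h)
  let θ : L →* ℂ :=
    { toFun := fun l => ∏ x : P, φ' (MulAut.conjNormal (x : G) l)
      map_one' := by simp
      map_mul' := fun a b => by simp [map_mul, Finset.prod_mul_distrib] }
  refine ⟨θ, fun y hy => (Char.mem_inertia L).2 (funext fun l => ?_), ?_⟩
  · show θ (MulAut.conjNormal y l) = θ l
    refine Fintype.prod_equiv (Equiv.mulRight (⟨y, hy⟩ : P)) _ _ fun x => ?_
    simp [map_mul, MulAut.mul_apply]
  · have h : θ c = φ' c ^ Fintype.card P := by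
      show ∏ x : P, φ' (MulAut.conjNormal (x : G) c) = _
      rw [← Finset.card_univ, ← Finset.prod_const]
      exact Finset.prod_congr rfl fun x _ => congrArg φ' (Subtype.ext (by simpa using hcP x x.2))
    rw [h]
    obtain ⟨k, hk⟩ : ∃ k, Nat.card P = 2 ^ k := by
      haveI : Fact (Nat.Prime 2) := ⟨Nat.prime_two⟩
      exact hP.exists_card_eq
    exact pow_card_pow_ne_one hL hφ' (k := k) (by rw [← Nat.card_eq_fintype_card, hk])

/-- An odd-degree character over a `P`-fixed character of `L`. -/
theorem exists_odd_over [Fintype G] [Fintype L] {P : Subgroup G} (hP : IsPGroup 2 P)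
    (hPi : Odd P.index) (hL : Odd (Nat.card L)) (θ : IrrCharacter L) (hθ1 : θ.1 1 = 1)
    (hθ : P ≤ Char.inertia L θ.1) :
    ∃ χ : IrrCharacter G, Odd (charDegree χ.1) ∧ classInner (Char.resFun L χ.1) θ.1 ≠ 0 := by
  classical
  set I := Char.inertia L θ.1
  haveI := Fintype.ofFinite I
  have hLI : L ≤ I := Char.irr_le_inertia L θ
  set P1 := P.subgroupOf I
  haveI := Fintype.ofFinite P1
  set Φ := indFun P1 (fun _ : P1 => (1 : ℂ)) with hΦ
  have hΦc : IsCharacter I Φ := Char.isCharacter_indFun P1 Char.isCharacter_one
  obtain ⟨m, hm, -⟩ := Char.IsCharacter.exists_decomp hΦc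
  choose k hk using fun ψ : IrrCharacter I => Char.exists_nat_classInner_resIncl L hLI θ ψ
  have hval : ∀ l : L, Φ (Subgroup.inclusion hLI l) = if l = 1 then (P1.index : ℂ) else 0 := by
    intro l
    split_ifs with h
    · rw [h, map_one, hΦ, Char.indFun_apply_one, mul_one]
    · rw [hΦ]
      refine Char.indFun_eq_zero_of_forall_notMem P1 _ fun x hx => h ?_
      have hx' : (x : G)⁻¹ * l * x ∈ P := hx
      have hxL : (x : G)⁻¹ * l * x ∈ L := by
        simpa using (inferInstance : L.Normal).conj_mem _ l.2 (x : G)⁻¹
      have h1 := eq_one_of_mem_of_mem hP hL hx' hxL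
      refine Subtype.ext ?_
      calc (l : G) = (x : G) * ((x : G)⁻¹ * l * x) * (x : G)⁻¹ := by group
        _ = 1 := by rw [h1, mul_one, mul_inv_cancel]
  have hin : classInner (Char.resIncl L hLI Φ) θ.1 = (P1.index : ℂ) / Nat.card L := by
    rw [classInner, Finset.sum_eq_single (1 : L)]
    · rw [Char.resIncl_apply, hval, if_pos rfl, hθ1, map_one, mul_one, div_eq_inv_mul]
    · intro l _ hl
      rw [Char.resIncl_apply, hval, if_neg hl, zero_mul]
    · simp
  have hrw : Char.resIncl L hLI Φ = ∑ ψ : IrrCharacter I, (m ψ : ℂ) • Char.resIncl L hLI ψ.1 := by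
    funext n
    have := congrFun hm (Subgroup.inclusion hLI n)
    simpa using this
  rw [hrw, Char.classInner_sum_left] at hin
  have hnat : (∑ ψ, m ψ * k ψ) * Nat.card L = P1.index := by
    have h2 : ((∑ ψ, m ψ * k ψ : ℕ) : ℂ) = (P1.index : ℂ) / Nat.card L := by
      push_cast
      rw [← hin]
      exact Finset.sum_congr rfl fun ψ _ => by rw [Char.classInner_smul_left, hk]
    rw [eq_div_iff (Nat.cast_ne_zero.2 Nat.card_pos.ne')] at h2
    exact_mod_cast h2
  have hPI : P ≤ I := hθ
  have hodd : Odd (∑ ψ, m ψ * k ψ) := by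
    have h := odd_index_subgroupOf hPI hPi
    rw [show (P.subgroupOf I).index = P1.index from rfl, ← hnat, Nat.odd_mul] at h
    exact h.1
  obtain ⟨ψ, -, -, hψ⟩ := exists_fixed_of_odd Finset.univ id (fun _ _ => Finset.mem_univ _)
    (fun _ _ => rfl) (fun ψ => m ψ * k ψ) (fun _ _ => rfl) hodd
  rw [Nat.odd_mul] at hψ
  have hover : classInner (Char.resIncl L hLI ψ.1) θ.1 ≠ 0 := by
    rw [hk]
    exact Nat.cast_ne_zero.2 fun h => by rw [h] at hψ; simp at hψ
  obtain ⟨e, -, he, hres⟩ := Char.exists_mult_of_over_inertia L θ ψ hover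
  have hek : e = k ψ := by exact_mod_cast he.symm.trans (hk ψ)
  refine ⟨Char.cliffordInduce L θ ⟨ψ, hover⟩, ?_, ?_⟩
  · rw [charDegree_cliffordInduce]
    refine (odd_index_of_le hPI hPi).mul ?_
    have h : (charDegree ψ.1 : ℂ) = (k ψ : ℂ) := by
      rw [Char.charDegree_cast, ← hek]
      have := hres 1
      rw [hθ1, mul_one] at this
      exact this
    rw [show charDegree ψ.1 = k ψ by exact_mod_cast h]
    exact hψ.2
  · rw [Char.classInner_resFun_cliffordInduce]
    exact hover

end OddNormal

theorem signLinear_and_normalizer_aux (n : ℕ) : ∀ {G : Type u} [Group G] [Finite G],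
    Group.IsSolvable G → Nat.card G = n → ∀ P : Subgroup G, IsPGroup 2 P → Odd P.index →
      AllReal G → SignLinear P ∧ Subgroup.normalizer (P : Set G) = P := by
  induction n using Nat.strong_induction_on with
  | _ n ih =>
    intro G _ _ hsol hn P hP hPi hall
    haveI := hsol
    rcases subsingleton_or_nontrivial G with h | h
    · exact ⟨fun ν x => by rw [Subsingleton.elim x 1, map_one, one_mul], Subsingleton.elim _ _⟩
    · obtain ⟨L, hLn, hL0, hab, hcase⟩ := exists_normal_cases (G := G)
      haveI := hLn
      haveI : IsMulCommutative L := ⟨⟨hab⟩⟩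
      haveI := Fintype.ofFinite G
      haveI := Fintype.ofFinite L
      set π := QuotientGroup.mk' L
      have hallq : AllReal (G ⧸ L) := fun β hβ q => by
        obtain ⟨x, rfl⟩ := QuotientGroup.mk_surjective q
        exact hall (Char.inflate L β) (by simpa [charDegree] using hβ) x
      obtain ⟨hqs, hqn⟩ := ih _ (hn ▸ card_quotient_lt' hL0) inferInstance rfl (P.map π) (hP.map _)
        (odd_index_map hPi _ (QuotientGroup.mk'_surjective L)) hallq
      rcases hcase with hodd | ⟨h2, hL2⟩
      · refine ⟨fun ν x => ?_, le_antisymm (fun g hg => ?_) Subgroup.le_normalizer⟩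
        · let e : P ≃* P.map π := MulEquiv.ofBijective (toMap π P)
            ⟨exists_inverse_toMap L hodd hP, toMap_surjective π P⟩
          have := hqs (ν.comp e.symm.toMonoidHom) (e x)
          simpa using this
        · have hm : π g ∈ P.map π := by
            rw [← hqn]
            exact Subgroup.le_normalizer_map π ⟨g, hg, rfl⟩
          obtain ⟨x, hx, hxg⟩ := hm
          have hl : x⁻¹ * g ∈ L := QuotientGroup.eq.1 hxg
          have hlN : x⁻¹ * g ∈ Subgroup.normalizer (P : Set G) :=
            mul_mem (inv_mem (Subgroup.le_normalizer hx)) hg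
          set l := x⁻¹ * g
          have hcent : ∀ y ∈ P, y * l * y⁻¹ = l := by
            intro y hy
            have h1 : y * l * y⁻¹ * l⁻¹ ∈ P := by
              have := mul_mem hy ((Subgroup.mem_normalizer_iff.1 hlN y⁻¹).1 (inv_mem hy))
              simpa [mul_assoc] using this
            have h2 : y * l * y⁻¹ * l⁻¹ ∈ L := mul_mem (hLn.conj_mem l hl y) (inv_mem hl)
            exact mul_inv_eq_one.1 (eq_one_of_mem_of_mem hP hodd h1 h2)
          by_cases hl1 : (⟨l, hl⟩ : L) = 1
          · have hgx : g = x := by
              have h3 : x⁻¹ * g = 1 := congrArg Subtype.val hl1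
              exact (inv_mul_eq_one.1 h3).symm
            rw [hgx]
            exact hx
          · exfalso
            obtain ⟨θ, hθ, hθne⟩ := exists_fixed_ne_one L hP hodd hl1 hcent
            obtain ⟨χ, hχ, hover⟩ := exists_odd_over L hP hPi hodd (Char.linIrr θ) (map_one θ) hθ
            have hr := hall χ hχ
            have htriv := trivOn_of_isRO L hab hodd χ ⟨hχ, hr⟩
            have h0 : Char.resFun L χ.1 = χ.1 1 • (Char.trivialChar L).1 := funext fun k => by
              simp [htriv k k.2]
            rw [h0, Char.classInner_smul_left] at hover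
            by_cases he : (Char.trivialChar L).1 = (Char.linIrr θ).1
            · exact hθne (congrFun he _).symm
            · rw [Char.classInner_irr_of_ne (Char.trivialChar L).2 (Char.linIrr θ).2 he, mul_zero]
                at hover
              exact hover rfl
      · have hLP := le_of_isPGroup_of_normal hPi hL2
        haveI := Fintype.ofFinite P
        have hN : Subgroup.normalizer (P : Set G) = P := by
          refine le_antisymm (fun g hg => ?_) Subgroup.le_normalizer
          have hm : π g ∈ P.map π := by
            rw [← hqn]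
            exact Subgroup.le_normalizer_map π ⟨g, hg, rfl⟩
          obtain ⟨x, hx, hxg⟩ := hm
          have := mul_mem hx (hLP (QuotientGroup.eq.1 hxg))
          rwa [mul_inv_cancel_left] at this
        refine ⟨fun ν x => ?_, hN⟩
        have hνsq : ∀ l ∈ L, ∀ h : l ∈ P, ν ⟨l, h⟩ * ν ⟨l, h⟩ = 1 := fun l hl h => by
          rw [← map_mul, show (⟨l, h⟩ : P) * ⟨l, h⟩ = 1 from
            Subtype.ext (by rw [Subgroup.coe_mul, ← pow_two]; exact h2 l hl), map_one]
        set θ := resLin hLP ν with hθ
        set I := Char.inertia L θ.1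
        haveI := Fintype.ofFinite I
        have hPI : P ≤ I := le_inertia_resLin hLP ν
        obtain ⟨μ, hμL, -⟩ := exists_sign_extension (I := I) hLP hPI hPi ν hνsq (fun g hg => hg)
        have hover : classInner (Char.resIncl L (Char.irr_le_inertia L θ) (Char.linIrr μ).1) θ.1 ≠ 0 :=
          over_of_values L θ _ fun l => by
            show μ ⟨(l : G), _⟩ = μ 1 * ν ⟨(l : G), hLP l.2⟩
            rw [map_one, one_mul]
            exact hμL l l.2
        have hμr : RealVal (Char.linIrr μ).1 :=
          realVal_correspondent L θ (realVal_resLin h2 hLP ν) ⟨_, hover⟩ (hall _ (by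
            rw [charDegree_cliffordInduce]
            exact (odd_index_of_le hPI hPi).mul (by simp [charDegree])))
        have hμsq : ∀ g, μ g * μ g = 1 := fun g => by
          rw [← map_mul]
          exact Char.sq_eq_one_of_real_linear μ (realVal_iff_im.1 hμr) g
        let w : P →* ℂ := μ.comp (Subgroup.inclusion hPI) * ν
        have hker : (toMap π P).ker ≤ w.toHomUnits.ker := fun y hy => by
          have hyL : (y : G) ∈ L := (QuotientGroup.eq_one_iff _).1 (congrArg Subtype.val hy)
          refine Units.ext ?_
          show μ ⟨(y : G), _⟩ * ν y = 1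
          rw [hμL y hyL]
          exact hνsq y hyL y.2
        let wl := (toMap π P).liftOfSurjective (toMap_surjective π P) ⟨w.toHomUnits, hker⟩
        have hwl : ((wl (toMap π P x) : ℂˣ) : ℂ) = w x := congrArg Units.val
          (MonoidHom.liftOfRightInverse_comp_apply (toMap π P) _ _ ⟨w.toHomUnits, hker⟩ x)
        have h3 : ((wl (toMap π P x) : ℂˣ) : ℂ) * ((wl (toMap π P x) : ℂˣ) : ℂ) = 1 :=
          hqs ((Units.coeHom ℂ).comp wl) (toMap π P x)
        rw [hwl] at h3
        have h4 : μ (Subgroup.inclusion hPI x) * ν x * (μ (Subgroup.inclusion hPI x) * ν x) = 1 := h3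
        rwa [mul_mul_mul_comm, hμsq, one_mul] at h4

theorem allReal_aux (n : ℕ) : ∀ {G : Type u} [Group G] [Finite G],
    Group.IsSolvable G → Nat.card G = n → ∀ P : Subgroup G, IsPGroup 2 P → Odd P.index →
      SignLinear P → Subgroup.normalizer (P : Set G) = P → AllReal G := by
  induction n using Nat.strong_induction_on with
  | _ n ih =>
    intro G _ _ hsol hn P hP hPi hsign hN χ hχ
    haveI := hsol
    rcases subsingleton_or_nontrivial G with h | h
    · intro g
      obtain ⟨lam, hlam⟩ := Char.IsCharacter.exists_monoidHom (Char.irr_isCharacter χ)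
        (Char.apply_one_of_comm (fun a b => Subsingleton.elim _ _) χ)
      rw [← hlam, Subsingleton.elim g 1, map_one, map_one]
    · obtain ⟨L, hLn, hL0, hab, hcase⟩ := exists_normal_cases (G := G)
      haveI := hLn
      haveI : IsMulCommutative L := ⟨⟨hab⟩⟩
      haveI := Fintype.ofFinite G
      haveI := Fintype.ofFinite L
      obtain ⟨θ0, hθ0⟩ := Char.exists_constituent L χ
      obtain ⟨g, hg, hgP⟩ := exists_fixed_conj L hP χ hχ θ0 hθ0
      set θ := Char.conjChar L θ0 g
      obtain ⟨lam, hlam⟩ := Char.IsCharacter.exists_monoidHom (Char.irr_isCharacter θ)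
        (Char.apply_one_of_comm hab θ)
      rcases hcase with hodd | ⟨h2, hL2⟩
      · have hone : ∀ l, θ.1 l = 1 := fun l => by
          rw [← hlam]
          exact fixed_eq_one L hP hodd hN lam (by rw [show (Char.linIrr lam).1 = θ.1 from hlam]; exact hgP) l
        have h := Char.resFun_eq_smul_of_invariant L χ θ
          (fun x => funext fun k => by simp [Char.conjFun, hone]) hg
        have htriv : Char.TrivOn L χ.1 := fun k hk => by
          have hk' := congrFun h ⟨k, hk⟩
          have h1 := congrFun h 1
          simp only [Char.resFun_apply, Pi.smul_apply, smul_eq_mul, hone, OneMemClass.coe_one]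
            at hk' h1
          rw [hk', h1]
        obtain ⟨β, hβ⟩ := Char.exists_descend L χ htriv
        have hβd : Odd (charDegree β.1) := by
          have h1 : β.1 1 = χ.1 1 := hβ 1
          unfold charDegree at *
          rwa [h1]
        intro x
        rw [← hβ]
        exact ih _ (hn ▸ card_quotient_lt' hL0) inferInstance rfl _ (hP.map _)
          (odd_index_map hPi _ (QuotientGroup.mk'_surjective L)) (signLinear_map _ hsign)
          (map_normalizer_eq _ (QuotientGroup.mk'_surjective L) hP hPi hN) β hβd x
      · have hLP := le_of_isPGroup_of_normal hPi hL2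
        haveI := Fintype.ofFinite P
        set I := Char.inertia L θ.1
        haveI := Fintype.ofFinite I
        obtain ⟨ψ, hψ⟩ := (Char.cliffordInduce_bijective L θ).2 χ hg
        have hψd : Odd (charDegree ψ.1.1) := by
          have h1 := hχ
          rw [← hψ, charDegree_cliffordInduce, Nat.odd_mul] at h1
          exact h1.2
        obtain ⟨e, -, -, hres⟩ := Char.exists_mult_of_over_inertia L θ ψ.1 ψ.2
        obtain ⟨η, hηd, hη⟩ := exists_odd_constituent (G := P)
          (ψ := fun x => ψ.1.1 (Subgroup.inclusion hgP x))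
          (Char.IsCharacter.comp (Char.irr_isCharacter ψ.1) (Subgroup.inclusion hgP))
          hψd (by rw [map_one, Char.charDegree_cast])
        obtain ⟨ν, hν⟩ := exists_linear_of_odd hP η hηd
        have hνθ : resLin hLP ν = θ := resLin_eq_of_constituent hLP
          (Char.IsCharacter.comp (Char.irr_isCharacter ψ.1) (Subgroup.inclusion hgP)) θ e
          (fun l => hres l) ν (by rw [show (Char.linIrr ν).1 = η.1 from hν]; exact hη)
        obtain ⟨μ, hμL, hμsq⟩ := exists_sign_extension (I := I) hLP hgP hPi ν
          (fun l hl h => hsign ν _) (fun x hx => by rw [hνθ]; exact hx)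
        have hμ := hμsq (hsign ν)
        have hθval : ∀ l : L, μ ⟨l, hgP (hLP l.2)⟩ = θ.1 l := fun l => by
          rw [← hνθ, resLin_apply]
          exact hμL l l.2
        have he : ψ.1.1 1 = e := by
          have h1 := hres 1
          have hθ1 : θ.1 1 = 1 := by rw [← hlam]; exact map_one lam
          rw [hθ1, mul_one] at h1
          exact h1
        obtain ⟨β, hβ⟩ := exists_twistInfl (L.subgroupOf I) hμ ψ.1 fun k hk => by
          have h1 := hres ⟨k, hk⟩
          rw [← hθval, ← he, mul_comm] at h1
          exact h1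
        have hN1 : Subgroup.normalizer ((P.subgroupOf I : Subgroup I) : Set I) = P.subgroupOf I := by
          refine le_antisymm (fun y hy => ?_) Subgroup.le_normalizer
          have hy' : (y : G) ∈ Subgroup.normalizer (P : Set G) :=
            mem_normalizer_of_conj_le fun x hx =>
              (Subgroup.mem_normalizer_iff.1 hy ⟨x, hgP hx⟩).1 hx
          rwa [hN] at hy'
        have hP1 : IsPGroup 2 (P.subgroupOf I) := hP.comap_of_injective I.subtype I.subtype_injective
        have hβr : RealVal β.1 :=
          ih _ (hn ▸ card_quotient_lt hL0 I (hLP.trans hgP)) inferInstance rfl _ (hP1.map _)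
            (odd_index_map (odd_index_subgroupOf hgP hPi) _ (QuotientGroup.mk'_surjective _))
            (signLinear_map _ (signLinear_subgroupOf hgP hsign))
            (map_normalizer_eq _ (QuotientGroup.mk'_surjective _) hP1
              (odd_index_subgroupOf hgP hPi) hN1) β
            (by rw [← twistInfl_charDegree (L.subgroupOf I) μ β, hβ]; exact hψd)
        rw [← hψ, Char.cliffordInduce_coe]
        refine realVal_indFun ?_
        rw [← hβ]
        exact (realVal_twistInfl_iff (L.subgroupOf I) hμ β).2 hβr

/-- All odd-degree irreducible characters of a solvable group are real iff a Sylow 2-subgroup is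
self-normalizing and its linear characters are sign characters. -/
theorem allReal_iff [Group.IsSolvable G] (P : Subgroup G) (hP : IsPGroup 2 P) (hPi : Odd P.index) :
    AllReal G ↔ SignLinear P ∧ Subgroup.normalizer (P : Set G) = P :=
  ⟨signLinear_and_normalizer_aux _ inferInstance rfl P hP hPi,
    fun h => allReal_aux _ inferInstance rfl P hP hPi h.1 h.2⟩

theorem signLinear_iff {P : Type u} [Group P] [Finite P] :
    SignLinear P ↔ ∀ x : P, x ^ 2 ∈ commutator P := by
  constructor
  · intro h x
    by_contra hx
    haveI : Finite (Abelianization P) :=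
      Finite.of_surjective (Abelianization.of (G := P)) QuotientGroup.mk_surjective
    haveI : NeZero (Monoid.exponent (Abelianization P) : ℂ) :=
      ⟨Nat.cast_ne_zero.2 Monoid.exponent_ne_zero_of_finite⟩
    obtain ⟨φ, hφ⟩ := CommGroup.exists_apply_ne_one_of_hasEnoughRootsOfUnity (Abelianization P) ℂ
      (a := Abelianization.of (x ^ 2)) (fun h1 => hx ((QuotientGroup.eq_one_iff _).1 h1))
    refine hφ (Units.ext ?_)
    have := h (((Units.coeHom ℂ).comp φ).comp Abelianization.of) x
    rw [← map_mul, ← pow_two] at this
    exact this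
  · intro h ν x
    have h1 := Abelianization.commutator_subset_ker ν.toHomUnits (h x)
    rw [MonoidHom.mem_ker] at h1
    have h2 := congrArg Units.val h1
    rw [← map_mul, ← pow_two]
    exact h2

end Cfsg.Agent.OddDeg
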