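import Cfsg.Agent.Lib.OddDeg.Quot

/-!
# Real odd-degree characters and an abelian normal subgroup of odd order
-/

set_option autoImplicit false
set_option linter.style.haveILetI false
set_option linter.unusedSectionVars false

namespace Cfsg.Agent.OddDeg

open Cfsg
open scoped ComplexConjugate

universe u

variable {G : Type u} [Group G] [Finite G]

/-- A real linear character of a group of odd order is trivial. -/
theorem eq_one_of_sq_of_odd {K : Type u} [Group K] [Finite K] (hK : Odd (Nat.card K)) (lam : K →* ℂ)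
    {k : K} (h : lam k * lam k = 1) : lam k = 1 := by
  have h2 : lam k ^ Nat.card K = 1 := by rw [← map_pow, pow_card_eq_one', map_one]
  rwa [pow_odd_of_sq h hK] at h2

/-- Real odd-degree characters are trivial on abelian normal subgroups of odd order. -/
theorem trivOn_of_isRO (L : Subgroup G) [L.Normal] (hab : ∀ a b : L, a * b = b * a)
    (hodd : Odd (Nat.card L)) (χ : IrrCharacter G) (hχ : IsRO χ) : Char.TrivOn L χ.1 := by
  haveI := Fintype.ofFinite G
  haveI := Fintype.ofFinite L
  obtain ⟨θ, hθr, hθ⟩ := exists_real_constituent L χ hχ.1 hχ.2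
  obtain ⟨lam, hlam⟩ := Char.IsCharacter.exists_monoidHom (Char.irr_isCharacter θ)
    (Char.apply_one_of_comm hab θ)
  have hone : ∀ l, θ.1 l = 1 := fun l => by
    rw [← hlam]
    refine eq_one_of_sq_of_odd hodd lam ?_
    rw [← map_mul]
    exact Char.sq_eq_one_of_real_linear lam (realVal_iff_im.1 (hlam ▸ hθr)) l
  have h := Char.resFun_eq_smul_of_invariant L χ θ
    (fun g => funext fun n => by simp [Char.conjFun, hone]) hθ
  intro k hk
  have hk' := congrFun h ⟨k, hk⟩
  have h1 := congrFun h 1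
  simp only [Char.resFun_apply, Pi.smul_apply, smul_eq_mul, hone, OneMemClass.coe_one] at hk' h1
  rw [hk', h1]

theorem isRO_inflate (L : Subgroup G) [L.Normal] {β : IrrCharacter (G ⧸ L)} (h : IsRO β) :
    IsRO (Char.inflate L β) := by
  refine ⟨?_, fun g => h.2 _⟩
  simpa [charDegree] using h.1

theorem isRO_descend (L : Subgroup G) [L.Normal] {χ : IrrCharacter G} (h : IsRO χ)
    {β : IrrCharacter (G ⧸ L)} (hβ : ∀ g : G, β.1 (g : G ⧸ L) = χ.1 g) : IsRO β := by
  refine ⟨?_, fun q => ?_⟩
  · have h1 : β.1 1 = χ.1 1 := hβ 1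
    unfold charDegree at *
    rw [h1]
    exact h.1
  · obtain ⟨x, rfl⟩ := QuotientGroup.mk_surjective q
    rw [hβ]
    exact h.2 x

theorem exists_inverse_toMap (L : Subgroup G) [L.Normal] (hodd : Odd (Nat.card L)) {P : Subgroup G}
    (hP : IsPGroup 2 P) : Function.Injective (toMap (QuotientGroup.mk' L) P) := by
  intro a b h
  have h' := QuotientGroup.eq.1 (congrArg Subtype.val h)
  have := eq_one_of_mem_of_mem hP hodd (mul_mem (inv_mem a.2) b.2) h'
  exact Subtype.ext (inv_mul_eq_one.1 this)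

/-- The step over an abelian normal subgroup of odd order. -/
theorem param_of_odd (L : Subgroup G) [L.Normal] (hab : ∀ a b : L, a * b = b * a)
    (hodd : Odd (Nat.card L)) {P : Subgroup G} (hP : IsPGroup 2 P) (hPi : Odd P.index)
    (ih : Param (G ⧸ L) (P.map (QuotientGroup.mk' L))) : Param G P := by
  set π := QuotientGroup.mk' L
  obtain ⟨F, hFs, hFe⟩ := ih
  let e : P ≃* P.map π := MulEquiv.ofBijective (toMap π P)
    ⟨exists_inverse_toMap L hodd hP, toMap_surjective π P⟩
  let down : RLin P → RLin (P.map π) := fun ν => ⟨ν.1.comp e.symm.toMonoidHom, fun x => ν.2 _⟩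
  let up : RLin (P.map π) → RLin P := fun ν => ⟨ν.1.comp e.toMonoidHom, fun x => ν.2 _⟩
  have hud : ∀ ν, up (down ν) = ν := fun ν => RLin.ext' fun x => by
    show ν.1 (e.symm (e x)) = ν.1 x
    rw [e.symm_apply_apply]
  have hdu : ∀ ν, down (up ν) = ν := fun ν => RLin.ext' fun x => by
    show ν.1 (e (e.symm x)) = ν.1 x
    rw [e.apply_symm_apply]
  have hact : ∀ (ν : RLin (P.map π)) (n : G) (hn : n ∈ Subgroup.normalizer (P : Set G))
      (hn' : π n ∈ Subgroup.normalizer ((P.map π : Subgroup (G ⧸ L)) : Set (G ⧸ L))),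
      up (act ν (π n) hn') = act (up ν) n hn := fun ν n hn hn' => RLin.ext' fun x =>
    congrArg ν.1 (Subtype.ext (show π n * π x * (π n)⁻¹ = π (n * x * n⁻¹) by simp))
  have hfused : ∀ ν ν', Fused (down ν) (down ν') ↔ Fused ν ν' := fun ν ν' => by
    constructor
    · rintro ⟨m, hm, h⟩
      obtain ⟨n, hn, rfl⟩ := exists_lift_normalizer π (QuotientGroup.mk'_surjective L) hP hPi hm
      refine ⟨n, hn, ?_⟩
      rw [← hud ν', h, hact _ n hn hm, hud]
    · rintro ⟨n, hn, rfl⟩
      have hn' : π n ∈ Subgroup.normalizer ((P.map π : Subgroup (G ⧸ L)) : Set (G ⧸ L)) :=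
        Subgroup.le_normalizer_map π ⟨n, hn, rfl⟩
      refine ⟨π n, hn', ?_⟩
      conv_lhs => rw [← hud ν]
      rw [← hact _ n hn hn', hdu]
  refine ⟨fun ν => ⟨Char.inflate L (F (down ν)).1, isRO_inflate L (F (down ν)).2⟩,
    fun χ => ?_, fun ν ν' => ?_⟩
  · obtain ⟨β, hβ⟩ := Char.exists_descend L χ.1 (trivOn_of_isRO L hab hodd χ.1 χ.2)
    obtain ⟨ν, hν⟩ := hFs ⟨β, isRO_descend L χ.2 hβ⟩
    refine ⟨up ν, Subtype.ext (Subtype.ext (funext fun g => ?_))⟩
    show (F (down (up ν))).1.1 (g : G ⧸ L) = χ.1.1 g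
    rw [hdu, hν]
    exact hβ g
  · rw [← hfused, ← hFe]
    constructor
    · intro h
      exact Subtype.ext (Char.inflate_injective L (congrArg Subtype.val h))
    · intro h
      simp only [h]

end Cfsg.Agent.OddDeg
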