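import Cfsg.Agent.Lib.OddDeg.RLin

/-!
# Passing a 2-subgroup of odd index to subgroups and quotients
-/

set_option autoImplicit false
set_option linter.style.haveILetI false
set_option linter.unusedSectionVars false

namespace Cfsg.Agent.OddDeg

open Cfsg
open scoped ComplexConjugate Pointwise

universe u

variable {G : Type u} [Group G] [Finite G]

theorem odd_index_subgroupOf {P I : Subgroup G} (hPI : P ≤ I) (h : Odd P.index) :
    Odd (P.subgroupOf I).index := by
  have e : P.relIndex I * I.index = P.index := Subgroup.relIndex_mul_index hPI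
  rw [← e, Nat.odd_mul] at h
  exact h.1

theorem odd_index_of_le {P I : Subgroup G} (hPI : P ≤ I) (h : Odd P.index) : Odd I.index := by
  rw [← Subgroup.relIndex_mul_index hPI, Nat.odd_mul] at h
  exact h.2

theorem odd_index_map {H : Type u} [Group H] {P : Subgroup G} (h : Odd P.index) (f : G →* H)
    (hf : Function.Surjective f) : Odd (P.map f).index :=
  h.of_dvd_nat (Subgroup.index_map_dvd P hf)

theorem mem_normalizer_of_conj_le {P : Subgroup G} {n : G} (h : ∀ x ∈ P, n * x * n⁻¹ ∈ P) :
    n ∈ Subgroup.normalizer (P : Set G) :=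
  Subgroup.mem_normalizer_fintype h

/-- Conjugating into a subgroup of odd index inside an overgroup. -/
theorem exists_conj_mem_of_le {P Q I : Subgroup G} (hQI : Q ≤ I) (hQ : IsPGroup 2 Q) (hPI : P ≤ I)
    (hP : Odd P.index) : ∃ i ∈ I, ∀ x ∈ Q, i⁻¹ * x * i ∈ P := by
  obtain ⟨i, hi⟩ := exists_conj_mem (G := I) (P := Q.subgroupOf I) (I := P.subgroupOf I)
    (hQ.comap_of_injective I.subtype I.subtype_injective) (odd_index_subgroupOf hPI hP)
  exact ⟨i, i.2, fun x hx => hi ⟨x, hQI hx⟩ hx⟩

/-- The image of a subgroup in a quotient, as a homomorphism. -/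
def toMap {H : Type u} [Group H] (f : G →* H) (P : Subgroup G) : P →* P.map f where
  toFun x := ⟨f x, Subgroup.mem_map_of_mem f x.2⟩
  map_one' := Subtype.ext (by simp)
  map_mul' a b := Subtype.ext (by simp)

omit [Finite G] in
theorem toMap_surjective {H : Type u} [Group H] (f : G →* H) (P : Subgroup G) :
    Function.Surjective (toMap f P) := by
  rintro ⟨_, x, hx, rfl⟩
  exact ⟨⟨x, hx⟩, rfl⟩

/-- Lifting an element normalising the image of `P`. -/
theorem exists_lift_normalizer {H : Type u} [Group H] (f : G →* H) (hf : Function.Surjective f)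
    {P : Subgroup G} (hP : IsPGroup 2 P) (hPi : Odd P.index) {m : H}
    (hm : m ∈ Subgroup.normalizer ((P.map f : Subgroup H) : Set H)) :
    ∃ n ∈ Subgroup.normalizer (P : Set G), f n = m := by
  obtain ⟨g, rfl⟩ := hf m
  set K := (P.map f).comap f
  have hPK : P ≤ K := Subgroup.le_comap_map f P
  have hQK : P.map (MulAut.conj g).toMonoidHom ≤ K := by
    rintro _ ⟨x, hx, rfl⟩
    show f (g * x * g⁻¹) ∈ P.map f
    rw [map_mul, map_mul, map_inv]
    exact (Subgroup.mem_normalizer_iff.1 hm (f x)).1 (Subgroup.mem_map_of_mem f hx)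
  obtain ⟨k, hk, hkx⟩ := exists_conj_mem_of_le hQK (hP.map _) hPK hPi
  obtain ⟨x, hx, hfx⟩ := (hk : f k ∈ P.map f)
  refine ⟨x * (k⁻¹ * g), mul_mem (Subgroup.le_normalizer hx) (mem_normalizer_of_conj_le fun y hy => ?_),
    ?_⟩
  · have h := hkx _ ⟨y, hy, rfl⟩
    simp only [MulEquiv.coe_toMonoidHom, MulAut.conj_apply] at h
    simpa [mul_assoc] using h
  · rw [map_mul, map_mul, map_inv, hfx, mul_inv_cancel_left]

theorem map_normalizer_eq {H : Type u} [Group H] (f : G →* H) (hf : Function.Surjective f)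
    {P : Subgroup G} (hP : IsPGroup 2 P) (hPi : Odd P.index)
    (hN : Subgroup.normalizer (P : Set G) = P) :
    Subgroup.normalizer ((P.map f : Subgroup H) : Set H) = P.map f := by
  refine le_antisymm (fun m hm => ?_) Subgroup.le_normalizer
  obtain ⟨n, hn, rfl⟩ := exists_lift_normalizer f hf hP hPi hm
  rw [hN] at hn
  exact Subgroup.mem_map_of_mem f hn

/-- A normal 2-subgroup lies in every 2-subgroup of odd index. -/
theorem le_of_isPGroup_of_normal {P L : Subgroup G} [L.Normal] (hPi : Odd P.index)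
    (hL : IsPGroup 2 L) : L ≤ P := by
  obtain ⟨g, hg⟩ := exists_conj_mem hL hPi
  intro l hl
  have h := hg (g * l * g⁻¹) ((inferInstance : L.Normal).conj_mem l hl g)
  simpa [mul_assoc] using h

/-- A 2-group meets an odd-order group trivially. -/
theorem eq_one_of_mem_of_mem {P L : Subgroup G} (hP : IsPGroup 2 P) (hL : Odd (Nat.card L)) {x : G}
    (hx : x ∈ P) (hx' : x ∈ L) : x = 1 := by
  haveI : Fact (Nat.Prime 2) := ⟨Nat.prime_two⟩
  obtain ⟨k, hk⟩ := IsPGroup.iff_orderOf.1 hP ⟨x, hx⟩
  rw [Subgroup.orderOf_mk] at hk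
  have h : orderOf x ∣ Nat.card L := by
    simpa using orderOf_dvd_natCard (⟨x, hx'⟩ : L)
  rcases k with _ | k
  · exact orderOf_eq_one_iff.1 (by simpa using hk)
  · exfalso
    refine (Nat.not_even_iff_odd.2 hL) (even_iff_two_dvd.2 (dvd_trans ?_ h))
    rw [hk]
    exact dvd_pow_self 2 k.succ_ne_zero

theorem card_quotient_lt {L : Subgroup G} [L.Normal] (hL : L ≠ ⊥) (I : Subgroup G) (hLI : L ≤ I) :
    Nat.card (I ⧸ L.subgroupOf I) < Nat.card G := by
  have h1 : Nat.card L * Nat.card (I ⧸ L.subgroupOf I) = Nat.card I := by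
    rw [← Nat.card_congr (Subgroup.subgroupOfEquivOfLe hLI).toEquiv, mul_comm]
    exact (Subgroup.card_eq_card_quotient_mul_card_subgroup _).symm
  have h2 : 1 < Nat.card L := by
    by_contra h
    exact hL (Subgroup.card_eq_one.1 (by
      have := Nat.card_pos (α := L)
      omega))
  have h3 : 0 < Nat.card (I ⧸ L.subgroupOf I) := Nat.card_pos
  calc Nat.card (I ⧸ L.subgroupOf I) < Nat.card L * Nat.card (I ⧸ L.subgroupOf I) :=
        lt_mul_of_one_lt_left h3 h2
    _ ≤ Nat.card G := h1 ▸ Subgroup.card_le_card_group I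

theorem card_quotient_lt' {L : Subgroup G} [L.Normal] (hL : L ≠ ⊥) :
    Nat.card (G ⧸ L) < Nat.card G := by
  have h1 := L.card_eq_card_quotient_mul_card_subgroup
  have h2 : 1 < Nat.card L := by
    by_contra h
    exact hL (Subgroup.card_eq_one.1 (by
      have := Nat.card_pos (α := L)
      omega))
  rw [h1]
  exact lt_mul_of_one_lt_right Nat.card_pos h2

end Cfsg.Agent.OddDeg
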