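import Cfsg.Agent.Lib.OddDeg.Basic

/-!
# Sign characters of a 2-subgroup under its normalizer, and twisting by a sign character

Auxiliary notions for the parametrisation of real irreducible characters of odd degree.
-/

set_option autoImplicit false
set_option linter.style.haveILetI false
set_option linter.unusedSectionVars false

namespace Cfsg.Agent.OddDeg

open Cfsg
open scoped ComplexConjugate

universe u

variable {G : Type u} [Group G] [Finite G]

/-- Real irreducible characters of odd degree. -/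
def IsRO (χ : IrrCharacter G) : Prop := Odd (charDegree χ.1) ∧ RealVal χ.1

/-- Homomorphisms to `±1`. -/
def RLin {G : Type u} [Group G] (P : Subgroup G) : Type u := {ν : P →* ℂ // ∀ x, ν x * ν x = 1}

omit [Finite G] in
@[ext] theorem RLin.ext' {P : Subgroup G} {a b : RLin P} (h : ∀ x, a.1 x = b.1 x) : a = b :=
  Subtype.ext (MonoidHom.ext h)

omit [Finite G] in
theorem conj_of_sq {z : ℂ} (h : z * z = 1) : conj z = z := by
  rcases mul_self_eq_one_iff.1 h with e | e <;> simp [e]

omit [Finite G] in
theorem pow_odd_of_sq {z : ℂ} (h : z * z = 1) {n : ℕ} (hn : Odd n) : z ^ n = z := by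
  obtain ⟨k, rfl⟩ := hn
  rw [pow_succ, pow_mul, pow_two, h, one_pow, one_mul]

/-- The conjugation of `P` by an element of its normalizer. -/
def cj (P : Subgroup G) (n : G) (hn : n ∈ Subgroup.normalizer (P : Set G)) : P →* P where
  toFun x := ⟨n * x * n⁻¹, (Subgroup.mem_normalizer_iff.1 hn x).1 x.2⟩
  map_one' := Subtype.ext (by simp)
  map_mul' a b := Subtype.ext (by simp)

omit [Finite G] in
@[simp] theorem cj_coe (P : Subgroup G) (n : G) (hn : n ∈ Subgroup.normalizer (P : Set G)) (x : P) :
    ((cj P n hn x : P) : G) = n * x * n⁻¹ := rfl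

/-- Conjugate of a sign character. -/
def act {P : Subgroup G} (ν : RLin P) (n : G) (hn : n ∈ Subgroup.normalizer (P : Set G)) : RLin P :=
  ⟨ν.1.comp (cj P n hn), fun x => ν.2 _⟩

omit [Finite G] in
theorem act_apply {P : Subgroup G} (ν : RLin P) (n : G)
    (hn : n ∈ Subgroup.normalizer (P : Set G)) (x : P) : (act ν n hn).1 x = ν.1 (cj P n hn x) := rfl

omit [Finite G] in
theorem act_act {P : Subgroup G} (ν : RLin P) (n m : G)
    (hn : n ∈ Subgroup.normalizer (P : Set G)) (hm : m ∈ Subgroup.normalizer (P : Set G)) :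
    act (act ν n hn) m hm = act ν (n * m) (mul_mem hn hm) :=
  RLin.ext' fun x => by
    show ν.1 (cj P n hn (cj P m hm x)) = ν.1 (cj P (n * m) _ x)
    exact congrArg ν.1 (Subtype.ext (by simp [mul_assoc]))

/-- Fusion by the normalizer. -/
def Fused {P : Subgroup G} (ν ν' : RLin P) : Prop :=
  ∃ (n : G) (hn : n ∈ Subgroup.normalizer (P : Set G)), ν' = act ν n hn

omit [Finite G] in
theorem act_one {P : Subgroup G} (ν : RLin P) : act ν 1 (one_mem _) = ν :=
  RLin.ext' fun x => congrArg ν.1 (Subtype.ext (by simp))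

omit [Finite G] in
theorem fused_act {P : Subgroup G} (ν : RLin P) (n : G)
    (hn : n ∈ Subgroup.normalizer (P : Set G)) : Fused ν (act ν n hn) := ⟨n, hn, rfl⟩

omit [Finite G] in
theorem Fused.symm {P : Subgroup G} {ν ν' : RLin P} (h : Fused ν ν') : Fused ν' ν := by
  obtain ⟨n, hn, rfl⟩ := h
  refine ⟨n⁻¹, inv_mem hn, ?_⟩
  rw [act_act]
  conv_lhs => rw [← act_one ν]
  exact RLin.ext' fun x => congrArg ν.1 (Subtype.ext (by simp))

omit [Finite G] in
theorem Fused.trans {P : Subgroup G} {a b c : RLin P} (h : Fused a b) (h' : Fused b c) :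
    Fused a c := by
  obtain ⟨n, hn, rfl⟩ := h
  obtain ⟨m, hm, rfl⟩ := h'
  exact ⟨n * m, mul_mem hn hm, act_act a n m hn hm⟩

/-- The parametrisation of the real odd-degree characters by sign characters of a Sylow
2-subgroup. -/
def Param (G : Type u) [Group G] (P : Subgroup G) : Prop :=
  ∃ F : RLin P → {χ : IrrCharacter G // IsRO χ},
    Function.Surjective F ∧ ∀ ν ν', F ν = F ν' ↔ Fused ν ν'

section Twist

variable {H : Type u} [Group H] [Finite H] (K : Subgroup H) [K.Normal] (μ : H →* ℂ)

/-- An inflated character times a linear character. -/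
noncomputable def twistInfl (β : IrrCharacter (H ⧸ K)) : IrrCharacter H :=
  ⟨⇑μ * (Char.inflate K β).1, Char.IsIrrCharacter.mul_linear (Char.inflate K β).2 μ⟩

theorem twistInfl_apply (β : IrrCharacter (H ⧸ K)) (h : H) :
    (twistInfl K μ β).1 h = μ h * β.1 (h : H ⧸ K) := rfl

theorem twistInfl_charDegree (β : IrrCharacter (H ⧸ K)) :
    charDegree (twistInfl K μ β).1 = charDegree β.1 := by
  simp [charDegree, twistInfl_apply]

theorem twistInfl_injective : Function.Injective (twistInfl K μ) := fun a b h => by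
  refine Subtype.ext (funext fun q => ?_)
  obtain ⟨x, rfl⟩ := QuotientGroup.mk_surjective q
  have h' := congrFun (congrArg Subtype.val h) x
  rw [twistInfl_apply, twistInfl_apply] at h'
  refine mul_left_cancel₀ (fun h0 => ?_) h'
  have h1 : μ x * μ x⁻¹ = 1 := by rw [← map_mul, mul_inv_cancel, map_one]
  rw [h0, zero_mul] at h1
  exact zero_ne_one h1

theorem twistInfl_of_mem (β : IrrCharacter (H ⧸ K)) {k : H} (hk : k ∈ K) :
    (twistInfl K μ β).1 k = μ k * β.1 1 := by
  rw [twistInfl_apply, (QuotientGroup.eq_one_iff k).2 hk]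

variable {μ}

theorem realVal_twistInfl_iff (hμ : ∀ h, μ h * μ h = 1) (β : IrrCharacter (H ⧸ K)) :
    RealVal (twistInfl K μ β).1 ↔ RealVal β.1 := by
  have hne : ∀ h, μ h ≠ 0 := fun h h0 => by simpa [h0] using hμ h
  constructor
  · intro h q
    obtain ⟨x, rfl⟩ := QuotientGroup.mk_surjective q
    have h' := h x
    rw [twistInfl_apply, map_mul, conj_of_sq (hμ x)] at h'
    exact mul_left_cancel₀ (hne x) h'
  · intro h x
    rw [twistInfl_apply, map_mul, conj_of_sq (hμ x), h]

theorem exists_twistInfl (hμ : ∀ h, μ h * μ h = 1) (ψ : IrrCharacter H)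
    (h : ∀ k ∈ K, ψ.1 k = μ k * ψ.1 1) : ∃ β, twistInfl K μ β = ψ := by
  let ψ' : IrrCharacter H := ⟨⇑μ * ψ.1, Char.IsIrrCharacter.mul_linear ψ.2 μ⟩
  obtain ⟨β, hβ⟩ := Char.exists_descend K ψ' fun k hk => by
    show μ k * ψ.1 k = μ 1 * ψ.1 1
    rw [h k hk, ← mul_assoc, hμ, map_one]
  exact ⟨β, Subtype.ext (funext fun x => by
    rw [twistInfl_apply, hβ]
    show μ x * (μ x * ψ.1 x) = ψ.1 x
    rw [← mul_assoc, hμ, one_mul])⟩

end Twist

theorem realVal_indFun [Fintype G] {I : Subgroup G} {ψ : I → ℂ} (hψ : RealVal ψ) :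
    RealVal (indFun I ψ) := fun g => by
  have hext : ∀ x, conj (extendByZero I ψ x) = extendByZero I ψ x := fun x => by
    by_cases hx : x ∈ I
    · rw [Char.extendByZero_of_mem _ _ hx, hψ]
    · rw [Char.extendByZero_of_notMem _ _ hx, map_zero]
  simp only [indFun, map_mul, map_inv₀, Complex.conj_natCast, map_sum, hext]

theorem indFun_conj [Fintype G] (I : Subgroup G) (ψ : I → ℂ) :
    indFun I (fun x => conj (ψ x)) = fun g => conj (indFun I ψ g) := by
  funext g
  have hext : ∀ x, extendByZero I (fun y => conj (ψ y)) x = conj (extendByZero I ψ x) := fun x => by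
    by_cases hx : x ∈ I
    · rw [Char.extendByZero_of_mem _ _ hx, Char.extendByZero_of_mem _ _ hx]
    · rw [Char.extendByZero_of_notMem _ _ hx, Char.extendByZero_of_notMem _ _ hx, map_zero]
  simp only [indFun, map_mul, map_inv₀, Complex.conj_natCast, map_sum, hext]

section Correspondent

variable [Fintype G] (L : Subgroup G) [L.Normal] [Fintype L]

/-- The correspondent of a real character over a real `θ` is real. -/
theorem realVal_correspondent (θ : IrrCharacter L) (hθ : RealVal θ.1)
    [Fintype (Char.inertia L θ.1)]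
    (ψ : {ψ : IrrCharacter (Char.inertia L θ.1) //
      classInner (Char.resIncl L (Char.irr_le_inertia L θ) ψ.1) θ.1 ≠ 0})
    (h : RealVal (Char.cliffordInduce L θ ψ).1) : RealVal ψ.1.1 := by
  have hover : classInner (Char.resIncl L (Char.irr_le_inertia L θ) (Char.conjIrr ψ.1).1) θ.1 ≠ 0 := by
    have e : classInner (Char.resIncl L (Char.irr_le_inertia L θ) (Char.conjIrr ψ.1).1) θ.1 =
        conj (classInner (Char.resIncl L (Char.irr_le_inertia L θ) ψ.1.1) θ.1) := by
      simp only [classInner, map_mul, map_inv₀, Complex.conj_natCast, map_sum, Char.resIncl_apply,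
        Char.conjIrr_apply, Complex.conj_conj, hθ _]
    rw [e]
    exact fun h0 => ψ.2 (by simpa using h0)
  have heq := (Char.cliffordInduce_bijective L θ).1
    (a₁ := ⟨Char.conjIrr ψ.1, hover⟩) (a₂ := ψ) (Subtype.ext (by
      rw [Char.cliffordInduce_coe]
      show indFun _ (fun x => conj (ψ.1.1 x)) = _
      rw [indFun_conj]
      exact funext h))
  exact fun x => congrFun (congrArg (fun a => a.1.1) heq) x

/-- Degrees under the correspondence. -/
theorem charDegree_cliffordInduce (θ : IrrCharacter L) [Fintype (Char.inertia L θ.1)]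
    (ψ : {ψ : IrrCharacter (Char.inertia L θ.1) //
      classInner (Char.resIncl L (Char.irr_le_inertia L θ) ψ.1) θ.1 ≠ 0}) :
    charDegree (Char.cliffordInduce L θ ψ).1 = (Char.inertia L θ.1).index * charDegree ψ.1.1 := by
  refine charDegree_mul ?_
  rw [Char.cliffordInduce_apply_one, Char.charDegree_cast]

/-- Being over `θ` from the values on `L`. -/
theorem over_of_values (θ : IrrCharacter L) [Fintype (Char.inertia L θ.1)]
    (ψ : IrrCharacter (Char.inertia L θ.1))
    (h : ∀ n : L, ψ.1 ⟨n, Char.irr_le_inertia L θ n.2⟩ = ψ.1 1 * θ.1 n) :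
    classInner (Char.resIncl L (Char.irr_le_inertia L θ) ψ.1) θ.1 ≠ 0 := by
  rw [show Char.resIncl L (Char.irr_le_inertia L θ) ψ.1 = ψ.1 1 • θ.1 from funext h,
    Char.classInner_smul_left, Char.classInner_irr_self θ.2, mul_one]
  exact Char.IsIrrCharacter.apply_one_ne_zero ψ.2

end Correspondent

end Cfsg.Agent.OddDeg
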