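import Cfsg.Agent.Lib.OddDeg.Quot

/-!
# Real odd-degree characters and a normal subgroup of exponent 2
-/

set_option autoImplicit false
set_option linter.style.haveILetI false
set_option linter.unusedSectionVars false

namespace Cfsg.Agent.OddDeg

open Cfsg
open scoped ComplexConjugate

universe u

variable {G : Type u} [Group G] [Finite G] {L P : Subgroup G}

/-- The restriction of a linear character of `P` to a subgroup `L`. -/
noncomputable def resLin (hLP : L ≤ P) (ν : P →* ℂ) : IrrCharacter L :=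
  Char.linIrr (ν.comp (Subgroup.inclusion hLP))

omit [Finite G] in
theorem resLin_apply (hLP : L ≤ P) (ν : P →* ℂ) (l : L) :
    (resLin hLP ν).1 l = ν ⟨l, hLP l.2⟩ := rfl

theorem realVal_resLin (hL2 : ∀ l ∈ L, l ^ 2 = 1) (hLP : L ≤ P) (ν : P →* ℂ) :
    RealVal (resLin hLP ν).1 := fun l => by
  rw [resLin_apply]
  refine conj_of_sq ?_
  rw [← map_mul, show (⟨l, hLP l.2⟩ : P) * ⟨l, hLP l.2⟩ = 1 from
    Subtype.ext (by rw [Subgroup.coe_mul, ← pow_two]; exact hL2 _ l.2), map_one]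

variable [L.Normal]

theorem conjChar_resLin_act (hLP : L ≤ P) (ν : RLin P) (n : G)
    (hn : n ∈ Subgroup.normalizer (P : Set G)) :
    resLin hLP (act ν n hn).1 = Char.conjChar L (resLin hLP ν.1) n := by
  refine Subtype.ext (funext fun l => ?_)
  rw [resLin_apply, Char.conjChar_coe, act_apply]
  exact congrArg ν.1 (Subtype.ext (by simp))

theorem le_inertia_resLin (hLP : L ≤ P) (ν : P →* ℂ) : P ≤ Char.inertia L (resLin hLP ν).1 := by
  intro x hx
  refine (Char.mem_inertia_iff L).2 fun n n' h => ?_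
  rw [resLin_apply, resLin_apply,
    show (⟨n', hLP n'.2⟩ : P) = ⟨x, hx⟩ * ⟨n, hLP n.2⟩ * ⟨x, hx⟩⁻¹ from Subtype.ext h, map_mul,
    map_mul, mul_comm (ν ⟨x, hx⟩), mul_assoc, ← map_mul, mul_inv_cancel, map_one, mul_one]

/-- Two `P`-invariant conjugate characters are conjugate in the normalizer. -/
theorem exists_normalizer_conj (hP : IsPGroup 2 P) (hPi : Odd P.index) {r r' : IrrCharacter L}
    (hr : P ≤ Char.inertia L r.1) (hr' : P ≤ Char.inertia L r'.1) {g : G}
    (h : r' = Char.conjChar L r g) :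
    ∃ n ∈ Subgroup.normalizer (P : Set G), r' = Char.conjChar L r n := by
  have hQ : P.map (MulAut.conj g).toMonoidHom ≤ Char.inertia L r.1 := by
    rintro _ ⟨x, hx, rfl⟩
    have hx' := (Char.mem_inertia L).1 (hr' hx)
    rw [h, Char.conjChar_coe, ← Char.conjFun_mul] at hx'
    show Char.conjFun L r.1 (g * x * g⁻¹) = r.1
    rw [Char.conjFun_mul, hx', ← Char.conjFun_mul, mul_inv_cancel, Char.conjFun_one]
  obtain ⟨i, hi, hix⟩ := exists_conj_mem_of_le hQ (hP.map _) hr hPi
  refine ⟨i⁻¹ * g, mem_normalizer_of_conj_le fun x hx => ?_, Subtype.ext ?_⟩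
  · have h1 := hix _ ⟨x, hx, rfl⟩
    simpa [mul_assoc] using h1
  · rw [h, Char.conjChar_coe, Char.conjChar_coe, Char.conjFun_mul,
      (Char.mem_inertia L).1 (inv_mem hi)]

/-- The restriction to `L` of a linear constituent of `ψ|P` when `ψ|L` is a multiple of `θ`. -/
theorem resLin_eq_of_constituent [Fintype G] [Fintype L] [Fintype P] (hLP : L ≤ P)
    {ψ : P → ℂ} (hψ : IsCharacter P ψ) (θ : IrrCharacter L) (e : ℂ)
    (hres : ∀ l : L, ψ ⟨l, hLP l.2⟩ = e * θ.1 l) (η : P →* ℂ)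
    (hη : classInner ψ (Char.linIrr η).1 ≠ 0) : resLin hLP η = θ := by
  classical
  by_contra hne
  obtain ⟨m, hm, hm'⟩ := Char.IsCharacter.exists_decomp hψ
  choose k hk using fun ζ : IrrCharacter P => Char.IsCharacter.exists_nat_classInner
    (Char.IsCharacter.comp (Char.irr_isCharacter ζ) (Subgroup.inclusion hLP))
    (Char.irr_isCharacter (resLin hLP η))
  have h0 : classInner (fun l : L => ψ ⟨l, hLP l.2⟩) (resLin hLP η).1 = 0 := by
    rw [show (fun l : L => ψ ⟨l, hLP l.2⟩) = e • θ.1 from funext hres, Char.classInner_smul_left,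
      Char.classInner_irr_of_ne θ.2 (resLin hLP η).2 (fun h => hne (Subtype.ext h.symm)), mul_zero]
  have hrw : (fun l : L => ψ ⟨l, hLP l.2⟩) =
      ∑ ζ : IrrCharacter P, (m ζ : ℂ) • fun l => ζ.1 (Subgroup.inclusion hLP l) := by
    funext l
    have := congrFun hm (Subgroup.inclusion hLP l)
    rw [show (⟨(l : G), hLP l.2⟩ : P) = Subgroup.inclusion hLP l from rfl]
    simpa using this
  rw [hrw, Char.classInner_sum_left] at h0
  have h0' : ((∑ ζ, m ζ * k ζ : ℕ) : ℂ) = 0 := by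
    push_cast
    rw [← h0]
    exact Finset.sum_congr rfl fun ζ _ => by rw [Char.classInner_smul_left, hk]
  have := Finset.sum_eq_zero_iff.1 (Nat.cast_eq_zero.1 h0') (Char.linIrr η) (Finset.mem_univ _)
  rcases Nat.mul_eq_zero.1 this with h | h
  · exact hη (by rw [hm', h, Nat.cast_zero])
  · have := hk (Char.linIrr η)
    rw [h, Nat.cast_zero] at this
    rw [show (fun x => (Char.linIrr η).1 (Subgroup.inclusion hLP x)) = (resLin hLP η).1 from rfl,
      Char.classInner_irr_self (resLin hLP η).2] at this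
    exact one_ne_zero this

section Extend

/-- A sign character of `P` extends from `L` to any overgroup of `P` fixing its restriction. -/
theorem exists_sign_extension {I : Subgroup G} (hLP : L ≤ P) (hPI : P ≤ I) (hPi : Odd P.index)
    (ν : P →* ℂ) (hν : ∀ l ∈ L, ∀ h : l ∈ P, ν ⟨l, h⟩ * ν ⟨l, h⟩ = 1)
    (hI : ∀ g ∈ I, Char.conjFun L (resLin hLP ν).1 g = (resLin hLP ν).1) :
    ∃ μ : I →* ℂ, (∀ (l : G) (hl : l ∈ L), μ ⟨l, hPI (hLP hl)⟩ = ν ⟨l, hLP hl⟩) ∧
      ((∀ x, ν x * ν x = 1) → ∀ g, μ g * μ g = 1) := by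
  let toP : P.subgroupOf I →* P :=
    { toFun := fun x => ⟨x.1.1, x.2⟩, map_one' := rfl, map_mul' := fun _ _ => rfl }
  obtain ⟨μ, h1, h2⟩ := exists_extension_of_invariant (G := I) (H := P.subgroupOf I)
    (L := L.subgroupOf I) (fun _ hx => hLP hx) (ν.comp toP) (fun g a b ha hb => by
      have hg := congrFun (hI _ (inv_mem g.2)) ⟨a.1.1, ha⟩
      rw [resLin_apply] at hg
      show ν (toP b) = ν (toP a)
      refine Eq.trans (congrArg ν (Subtype.ext ?_)) hg
      simp [toP, hb])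
  refine ⟨μ, fun l hl => ?_, fun h => h2 fun x => h _⟩
  rw [h1 ⟨l, hPI (hLP hl)⟩ hl]
  exact pow_odd_of_sq (hν l hl (hLP hl)) (odd_index_subgroupOf hPI hPi)

end Extend

/-- The fibre over a `P`-invariant character of `L`. -/
theorem exists_fibre [Fintype G] [Fintype L] (hL2 : ∀ l ∈ L, l ^ 2 = 1) (hLP : L ≤ P)
    (hP : IsPGroup 2 P) (hPi : Odd P.index)
    (ih : ∀ I : Subgroup G, P ≤ I →
      Param (I ⧸ L.subgroupOf I) ((P.subgroupOf I).map (QuotientGroup.mk' (L.subgroupOf I))))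
    (θ : IrrCharacter L) (hθ : ∃ ν : RLin P, resLin hLP ν.1 = θ) :
    ∃ F : {ν : RLin P // resLin hLP ν.1 = θ} → {χ : IrrCharacter G // IsRO χ},
      (∀ ν, classInner (Char.resFun L (F ν).1.1) θ.1 ≠ 0) ∧
      (∀ χ : {χ : IrrCharacter G // IsRO χ},
        classInner (Char.resFun L χ.1.1) θ.1 ≠ 0 → ∃ ν, F ν = χ) ∧
      ∀ ν ν', F ν = F ν' ↔ Fused ν.1 ν'.1 := by
  classical
  obtain ⟨ν₀, hν₀⟩ := hθ
  set I := Char.inertia L θ.1 with hI
  haveI := Fintype.ofFinite I
  have hLI : L ≤ I := Char.irr_le_inertia L θ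
  have hPI : P ≤ I := by rw [hI, ← hν₀]; exact le_inertia_resLin hLP ν₀.1
  obtain ⟨μ, hμL, hμsq⟩ := exists_sign_extension (I := I) hLP hPI hPi ν₀.1
    (fun l hl h => ν₀.2 _) (fun g hg => hν₀ ▸ hg)
  have hμ := hμsq ν₀.2
  have hθval : ∀ l : L, μ ⟨l, hLI l.2⟩ = θ.1 l := fun l => by
    rw [← hν₀, resLin_apply]
    exact hμL l l.2
  have hθr : RealVal θ.1 := hν₀ ▸ realVal_resLin hL2 hLP ν₀.1
  set K := L.subgroupOf I
  set π := QuotientGroup.mk' K
  set P1 := P.subgroupOf I
  obtain ⟨F, hFs, hFe⟩ := ih I hPI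
  let q : P →* P1.map π :=
    (toMap π P1).comp (Subgroup.subgroupOfEquivOfLe hPI).symm.toMonoidHom
  have hqs : Function.Surjective q :=
    (toMap_surjective π P1).comp (Subgroup.subgroupOfEquivOfLe hPI).symm.surjective
  have hqv : ∀ x : P, ((q x : P1.map π) : I ⧸ K) = π ⟨x, hPI x.2⟩ := fun x => rfl
  have hqker : ∀ x : P, q x = 1 ↔ (x : G) ∈ L := fun x => by
    rw [Subtype.ext_iff, hqv]
    exact QuotientGroup.eq_one_iff _
  let up : RLin (P1.map π) → {ν : RLin P // resLin hLP ν.1 = θ} := fun ν =>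
    ⟨⟨μ.comp (Subgroup.inclusion hPI) * ν.1.comp q, fun x => by
      show μ _ * ν.1 (q x) * (μ _ * ν.1 (q x)) = 1
      rw [mul_mul_mul_comm, hμ, ν.2, mul_one]⟩, by
      refine Subtype.ext (funext fun l => ?_)
      show μ ⟨l, _⟩ * ν.1 (q ⟨l, hLP l.2⟩) = θ.1 l
      rw [(hqker _).2 l.2, map_one, mul_one, ← hθval]⟩
  have hμne : ∀ x, μ x ≠ 0 := fun x h0 => by simpa [h0] using hμ x
  have hup_inj : Function.Injective up := fun a b h => RLin.ext' fun y => by
    obtain ⟨x, rfl⟩ := hqs y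
    exact mul_left_cancel₀ (hμne _) (congrArg (fun t => t.1.1 x) h)
  have hup_surj : Function.Surjective up := by
    rintro ⟨ν, hν⟩
    let w : P →* ℂ := μ.comp (Subgroup.inclusion hPI) * ν.1
    have hw : ∀ x, (q x = 1) → w x = 1 := fun x hx => by
      have hxL := (hqker x).1 hx
      have h1 : ν.1 x = θ.1 ⟨x, hxL⟩ := by rw [← hν]; rfl
      show μ ⟨x, _⟩ * ν.1 x = 1
      rw [h1, ← hθval ⟨x, hxL⟩]
      exact hμ _
    have hker : q.ker ≤ w.toHomUnits.ker := fun x hx => by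
      rw [MonoidHom.mem_ker] at hx ⊢
      exact Units.ext (hw x hx)
    let wl := q.liftOfSurjective hqs ⟨w.toHomUnits, hker⟩
    have hwl : ∀ x, ((wl (q x) : ℂˣ) : ℂ) = w x := fun x =>
      congrArg Units.val (MonoidHom.liftOfRightInverse_comp_apply q _ _ ⟨w.toHomUnits, hker⟩ x)
    refine ⟨⟨(Units.coeHom ℂ).comp wl, fun y => ?_⟩, Subtype.ext (RLin.ext' fun x => ?_)⟩
    · obtain ⟨x, rfl⟩ := hqs y
      show ((wl (q x) : ℂˣ) : ℂ) * ((wl (q x) : ℂˣ) : ℂ) = 1
      rw [hwl]
      show μ _ * ν.1 x * (μ _ * ν.1 x) = 1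
      rw [mul_mul_mul_comm, hμ, ν.2, mul_one]
    · show μ ⟨x, _⟩ * ((wl (q x) : ℂˣ) : ℂ) = ν.1 x
      rw [hwl]
      show μ (Subgroup.inclusion hPI x) * (μ (Subgroup.inclusion hPI x) * ν.1 x) = ν.1 x
      rw [← mul_assoc, hμ, one_mul]
  have hμclass : ∀ a b : I, μ (a * b * a⁻¹) = μ b := fun a b => by
    rw [map_mul, map_mul, mul_comm (μ a), mul_assoc, ← map_mul, mul_inv_cancel, map_one, mul_one]
  have hnorm : ∀ (n : I), (n : G) ∈ Subgroup.normalizer (P : Set G) →
      π n ∈ Subgroup.normalizer ((P1.map π : Subgroup (I ⧸ K)) : Set (I ⧸ K)) := fun n hn => by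
    refine Subgroup.le_normalizer_map π ⟨n, ?_, rfl⟩
    exact Subgroup.mem_normalizer_iff.2 fun y => Subgroup.mem_normalizer_iff.1 hn (y : G)
  have hact : ∀ (a : RLin (P1.map π)) (n : I) (hn : (n : G) ∈ Subgroup.normalizer (P : Set G)),
      (up (act a (π n) (hnorm n hn))).1 = act (up a).1 n hn := fun a n hn => RLin.ext' fun x => by
    show μ ⟨x, _⟩ * a.1 (cj _ (π n) _ (q x)) = μ ⟨(cj P n hn x : P), _⟩ * a.1 (q (cj P n hn x))
    refine congrArg₂ (· * ·) ?_ ?_
    · rw [← hμclass n ⟨x, hPI x.2⟩]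
      exact congrArg μ (Subtype.ext rfl)
    · refine congrArg a.1 (Subtype.ext ?_)
      show π n * π ⟨x, hPI x.2⟩ * (π n)⁻¹ = π ⟨(n : G) * x * (n : G)⁻¹, _⟩
      rw [← map_inv, ← map_mul, ← map_mul]
      exact congrArg π (Subtype.ext rfl)
  have hfused : ∀ a b, Fused (up a).1 (up b).1 ↔ Fused a b := fun a b => by
    constructor
    · rintro ⟨n, hn, h⟩
      have hnI : n ∈ I := by
        rw [hI, Char.mem_inertia]
        have h1 := conjChar_resLin_act hLP (up a).1 n hn
        rw [← h, (up b).2, (up a).2] at h1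
        exact (congrArg Subtype.val h1).symm
      exact ⟨π ⟨n, hnI⟩, hnorm ⟨n, hnI⟩ hn, hup_inj (Subtype.ext (by rw [hact a ⟨n, hnI⟩ hn]; exact h))⟩
    · rintro ⟨m, hm, rfl⟩
      obtain ⟨n, hn, rfl⟩ := exists_lift_normalizer π (QuotientGroup.mk'_surjective K)
        (hP.comap_of_injective I.subtype I.subtype_injective) (odd_index_subgroupOf hPI hPi) hm
      have hnG : (n : G) ∈ Subgroup.normalizer (P : Set G) :=
        mem_normalizer_of_conj_le fun x hx =>
          (Subgroup.mem_normalizer_iff.1 hn ⟨x, hPI hx⟩).1 hx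
      exact ⟨n, hnG, hact a n hnG⟩
  have hIodd : Odd I.index := odd_index_of_le hPI hPi
  have hover : ∀ β : IrrCharacter (I ⧸ K),
      classInner (Char.resIncl L hLI (twistInfl K μ β).1) θ.1 ≠ 0 := fun β =>
    over_of_values L θ _ fun l => by
      rw [twistInfl_of_mem K μ β (k := ⟨(l : G), hLI l.2⟩) l.2, hθval, twistInfl_apply]
      simp [mul_comm]
  let G0 : {β : IrrCharacter (I ⧸ K) // IsRO β} → {χ : IrrCharacter G // IsRO χ} := fun β =>
    ⟨Char.cliffordInduce L θ ⟨twistInfl K μ β.1, hover β.1⟩, by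
      rw [charDegree_cliffordInduce, twistInfl_charDegree]
      exact hIodd.mul β.2.1, by
      rw [Char.cliffordInduce_coe]
      exact realVal_indFun ((realVal_twistInfl_iff K hμ β.1).2 β.2.2)⟩
  have hG0 : Function.Injective G0 := fun a b h => Subtype.ext (twistInfl_injective K μ
    (congrArg Subtype.val ((Char.cliffordInduce_bijective L θ).1 (congrArg Subtype.val h))))
  let dn := Function.surjInv hup_surj
  refine ⟨fun ν => G0 (F (dn ν)), fun ν => ?_, fun χ hχ => ?_, fun ν ν' => ?_⟩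
  · show classInner (Char.resFun L (Char.cliffordInduce L θ ⟨_, _⟩).1) θ.1 ≠ 0
    rw [Char.classInner_resFun_cliffordInduce]
    exact hover _
  · obtain ⟨ψ, hψ⟩ := (Char.cliffordInduce_bijective L θ).2 χ.1 hχ
    have hψr : RealVal ψ.1.1 := realVal_correspondent L θ hθr ψ (hψ ▸ χ.2.2)
    have hψd : Odd (charDegree ψ.1.1) := by
      have h := χ.2.1
      rw [← hψ, charDegree_cliffordInduce, Nat.odd_mul] at h
      exact h.2
    obtain ⟨e, -, -, hres⟩ := Char.exists_mult_of_over_inertia L θ ψ.1 ψ.2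
    have he : ψ.1.1 1 = e := by
      have h := hres 1
      rw [← Char.charDegree_cast θ] at h
      have hθ1 : θ.1 1 = 1 := by rw [← hν₀, resLin_apply]; exact map_one ν₀.1
      rw [Char.charDegree_cast, hθ1, mul_one] at h
      exact h
    obtain ⟨β, hβ⟩ := exists_twistInfl K hμ ψ.1 fun k hk => by
      have h := hres ⟨k, hk⟩
      rw [← hθval, ← he, mul_comm] at h
      exact h
    have hβRO : IsRO β := by
      refine ⟨?_, (realVal_twistInfl_iff K hμ β).1 (hβ ▸ hψr)⟩
      rw [← twistInfl_charDegree K μ β, hβ]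
      exact hψd
    obtain ⟨a, ha⟩ := hFs ⟨β, hβRO⟩
    refine ⟨up a, Subtype.ext ?_⟩
    show Char.cliffordInduce L θ ⟨twistInfl K μ (F (dn (up a))).1, _⟩ = χ.1
    have hdu : dn (up a) = a := hup_inj (Function.surjInv_eq hup_surj _)
    simp only [hdu, ha, hβ]
    exact hψ
  · rw [← Function.surjInv_eq hup_surj ν, ← Function.surjInv_eq hup_surj ν']
    rw [hfused, ← hFe]
    constructor
    · intro h
      simp only [Function.surjInv_eq hup_surj] at h
      exact hG0 h
    · intro h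
      simp only [Function.surjInv_eq hup_surj]
      exact congrArg G0 h

/-- The step over a normal subgroup of exponent 2. -/
theorem param_of_two (hL2 : ∀ l ∈ L, l ^ 2 = 1) (hLP : L ≤ P) (hP : IsPGroup 2 P)
    (hPi : Odd P.index)
    (ih : ∀ I : Subgroup G, P ≤ I →
      Param (I ⧸ L.subgroupOf I) ((P.subgroupOf I).map (QuotientGroup.mk' (L.subgroupOf I)))) :
    Param G P := by
  classical
  haveI := Fintype.ofFinite G
  haveI := Fintype.ofFinite L
  haveI := Fintype.ofFinite P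
  let S : Setoid (IrrCharacter L) :=
    { r := fun a b => ∃ n ∈ Subgroup.normalizer (P : Set G), b = Char.conjChar L a n
      iseqv :=
        { refl := fun a => ⟨1, one_mem _, Subtype.ext (Char.conjFun_one L a.1).symm⟩
          symm := by
            rintro a b ⟨n, hn, rfl⟩
            refine ⟨n⁻¹, inv_mem hn, Subtype.ext ?_⟩
            simp only [Char.conjChar_coe, ← Char.conjFun_mul, mul_inv_cancel, Char.conjFun_one]
          trans := by
            rintro a b c ⟨n, hn, rfl⟩ ⟨m, hm, rfl⟩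
            refine ⟨n * m, mul_mem hn hm, Subtype.ext ?_⟩
            simp only [Char.conjChar_coe, Char.conjFun_mul] } }
  let rep : IrrCharacter L → IrrCharacter L := fun θ => (Quotient.mk S θ).out
  have hrep : ∀ θ, ∃ n ∈ Subgroup.normalizer (P : Set G), rep θ = Char.conjChar L θ n := fun θ =>
    Setoid.symm' S (Quotient.exact (Quotient.out_eq (Quotient.mk S θ)))
  have hrep_eq : ∀ θ θ', S.r θ θ' → rep θ = rep θ' := fun θ θ' h =>
    congrArg Quotient.out (Quotient.sound h)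
  choose nn hnn hnn' using hrep
  let nu : ∀ ν : RLin P, {ν' : RLin P // resLin hLP ν'.1 = rep (resLin hLP ν.1)} := fun ν =>
    ⟨act ν (nn (resLin hLP ν.1)) (hnn _), by rw [conjChar_resLin_act, ← hnn']⟩
  choose FF hFo hFs hFe using fun (θ : IrrCharacter L) (h : ∃ ν : RLin P, resLin hLP ν.1 = θ) =>
    exists_fibre hL2 hLP hP hPi ih θ h
  let F : RLin P → {χ : IrrCharacter G // IsRO χ} := fun ν =>
    FF (rep (resLin hLP ν.1)) ⟨_, (nu ν).2⟩ (nu ν)
  have key : ∀ (r r' : IrrCharacter L) (hr : ∃ ν : RLin P, resLin hLP ν.1 = r)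
      (hr' : ∃ ν : RLin P, resLin hLP ν.1 = r') (a : {ν : RLin P // resLin hLP ν.1 = r})
      (b : {ν : RLin P // resLin hLP ν.1 = r'}), r = r' →
      (FF r hr a = FF r' hr' b ↔ Fused a.1 b.1) := by
    rintro r r' hr hr' a b rfl
    exact hFe r hr a b
  refine ⟨F, fun χ => ?_, fun ν ν' => ?_⟩
  · obtain ⟨θ0, hθ0⟩ := Char.exists_constituent L χ.1
    obtain ⟨g, hg, hgP⟩ := exists_fixed_conj L hP χ.1 χ.2.1 θ0 hθ0
    set θ := Char.conjChar L θ0 g
    haveI := Fintype.ofFinite (Char.inertia L θ.1)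
    obtain ⟨ψ, hψ⟩ := (Char.cliffordInduce_bijective L θ).2 χ.1 hg
    have hθr : RealVal θ.1 := by
      obtain ⟨lam, hlam⟩ := Char.IsCharacter.exists_monoidHom (Char.irr_isCharacter θ)
        (Char.apply_one_of_comm (fun a b => by
          have ha : ∀ c : L, c * c = 1 := fun c => Subtype.ext (by
            rw [Subgroup.coe_mul, ← pow_two]; exact hL2 _ c.2)
          calc a * b = (a * b)⁻¹ := (inv_eq_of_mul_eq_one_left (ha _)).symm
            _ = b⁻¹ * a⁻¹ := mul_inv_rev a b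
            _ = b * a := by
              rw [inv_eq_of_mul_eq_one_left (ha b), inv_eq_of_mul_eq_one_left (ha a)]) θ)
      intro l
      rw [← hlam]
      refine conj_of_sq ?_
      rw [← map_mul, show l * l = 1 from Subtype.ext (by
        rw [Subgroup.coe_mul, ← pow_two]; exact hL2 _ l.2), map_one]
    have hψr : RealVal ψ.1.1 := realVal_correspondent L θ hθr ψ (hψ ▸ χ.2.2)
    have hψd : Odd (charDegree ψ.1.1) := by
      have h := χ.2.1
      rw [← hψ, charDegree_cliffordInduce, Nat.odd_mul] at h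
      exact h.2
    obtain ⟨e, -, -, hres⟩ := Char.exists_mult_of_over_inertia L θ ψ.1 ψ.2
    obtain ⟨η, hηr, hηd, hη⟩ := exists_real_odd_constituent (G := P)
      (ψ := fun x => ψ.1.1 (Subgroup.inclusion hgP x))
      (Char.IsCharacter.comp (Char.irr_isCharacter ψ.1) (Subgroup.inclusion hgP))
      (fun x => hψr _) hψd (by rw [map_one, Char.charDegree_cast])
    obtain ⟨lam, hlam⟩ := exists_linear_of_odd hP η hηd
    have hlsq : ∀ x, lam x * lam x = 1 := fun x => by
      rw [← map_mul]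
      exact Char.sq_eq_one_of_real_linear lam (realVal_iff_im.1 (hlam ▸ hηr)) x
    let ν : RLin P := ⟨lam, hlsq⟩
    have hνθ : resLin hLP ν.1 = θ := resLin_eq_of_constituent hLP
      (Char.IsCharacter.comp (Char.irr_isCharacter ψ.1) (Subgroup.inclusion hgP)) θ e
      (fun l => hres l) lam
      (by rw [show (Char.linIrr lam).1 = η.1 from hlam]; exact hη)
    have hover : classInner (Char.resFun L χ.1.1) (rep (resLin hLP ν.1)).1 ≠ 0 := by
      rw [hnn', Char.conjChar_coe, Char.classInner_resFun_conjFun L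
        (Char.IsCharacter.isClassFunction (Char.irr_isCharacter χ.1)), hνθ]
      exact hg
    obtain ⟨a, ha⟩ := hFs _ ⟨_, (nu ν).2⟩ χ hover
    refine ⟨a.1, ?_⟩
    rw [← ha]
    have hrr : rep (resLin hLP a.1.1) = rep (resLin hLP ν.1) := by
      rw [a.2]
      exact (hrep_eq _ _ ⟨nn _, hnn _, hnn' _⟩).symm
    exact (key _ _ _ _ (nu a.1) a hrr).2 (Fused.symm (fused_act _ _ (hnn _)))
  · constructor
    · intro h
      have h1 := hFo _ ⟨_, (nu ν).2⟩ (nu ν)
      have h2 := hFo _ ⟨_, (nu ν').2⟩ (nu ν')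
      rw [show FF _ _ (nu ν) = F ν from rfl, h] at h1
      obtain ⟨g, hg⟩ := Char.exists_conjChar_of_constituents L (F ν').1 _ _ h1 h2
      obtain ⟨n, hn, hn'⟩ := exists_normalizer_conj hP hPi
        ((nu ν).2 ▸ le_inertia_resLin hLP (nu ν).1.1) ((nu ν').2 ▸ le_inertia_resLin hLP (nu ν').1.1) hg
      have hrr : rep (resLin hLP ν.1) = rep (resLin hLP ν'.1) :=
        hrep_eq _ _ (Setoid.trans' S ⟨nn _, hnn _, hnn' _⟩
          (Setoid.trans' S ⟨n, hn, hn'⟩ (Setoid.symm' S ⟨nn _, hnn _, hnn' _⟩)))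
      exact Fused.trans (fused_act ν _ (hnn _))
        (Fused.trans ((key _ _ _ _ (nu ν) (nu ν') hrr).1 h) (Fused.symm (fused_act ν' _ (hnn _))))
    · intro h
      have hrr : rep (resLin hLP ν.1) = rep (resLin hLP ν'.1) := by
        obtain ⟨n, hn, rfl⟩ := h
        exact hrep_eq _ _ ⟨n, hn, conjChar_resLin_act hLP ν n hn⟩
      exact (key _ _ _ _ (nu ν) (nu ν') hrr).2
        (Fused.trans (Fused.symm (fused_act ν _ (hnn _))) (Fused.trans h (fused_act ν' _ (hnn _))))

end Cfsg.Agent.OddDeg
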