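import Cfsg.Agent.Lib.OddDeg.OddStep
import Cfsg.Agent.Lib.OddDeg.TwoStep
import Cfsg.Agent.Lib.Solvable.Basic

/-!
# Real irreducible characters of odd degree of a finite solvable group

They are parametrised by the orbits of the normalizer of a Sylow 2-subgroup `P` on the sign
characters of `P`.
-/

set_option autoImplicit false
set_option linter.style.haveILetI false
set_option linter.unusedSectionVars false

namespace Cfsg.Agent.OddDeg

open Cfsg
open scoped ComplexConjugate

universe u

variable {G : Type u} [Group G] [Finite G]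

/-- A nontrivial solvable group has an abelian normal subgroup which is of odd order or of
exponent two. -/
theorem exists_normal_cases [Group.IsSolvable G] [Nontrivial G] :
    ∃ L : Subgroup G, L.Normal ∧ L ≠ ⊥ ∧ (∀ a b : L, a * b = b * a) ∧
      (Odd (Nat.card L) ∨ ((∀ l ∈ L, l ^ 2 = 1) ∧ IsPGroup 2 L)) := by
  haveI : (⊤ : Subgroup G).Normal := inferInstance
  obtain ⟨L, hLn, -, hL0, hmin⟩ := Solvable.exists_minimal_normal (K := (⊤ : Subgroup G)) top_ne_bot
  haveI := hLn
  haveI hc : IsMulCommutative L := Solvable.isMulCommutative_of_minimal inferInstance hL0 hmin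
  obtain ⟨p, hp, hexp, hpg⟩ := Solvable.exists_prime_of_minimal hL0 hmin
  refine ⟨L, hLn, hL0, fun a b => hc.is_comm.comm a b, ?_⟩
  by_cases h2 : p = 2
  · subst h2
    exact Or.inr ⟨hexp, hpg⟩
  · left
    haveI := Fact.mk hp
    obtain ⟨k, hk⟩ := hpg.exists_card_eq
    rw [hk]
    exact (hp.odd_of_ne_two h2).pow

theorem param_of_subsingleton [Subsingleton G] (P : Subgroup G) : Param G P := by
  have hall : ∀ ν ν' : RLin P, ν = ν' := fun ν ν' => RLin.ext' fun x => by
    rw [Subsingleton.elim x 1, map_one, map_one]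
  refine ⟨fun _ => ⟨Char.trivialChar G, ?_, fun g => by simp⟩, fun χ => ?_, fun ν ν' => ?_⟩
  · simp [charDegree]
  · refine ⟨⟨1, fun _ => one_mul 1⟩, Subtype.ext (Subtype.ext (funext fun g => ?_))⟩
    obtain ⟨lam, hlam⟩ := Char.IsCharacter.exists_monoidHom (Char.irr_isCharacter χ.1)
      (Char.apply_one_of_comm (fun a b => Subsingleton.elim _ _) χ.1)
    show (1 : ℂ) = χ.1.1 g
    rw [← hlam, Subsingleton.elim g 1, map_one]
  · exact ⟨fun _ => ⟨1, one_mem _, by rw [act_one]; exact hall _ _⟩, fun _ => rfl⟩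

theorem param_aux (n : ℕ) : ∀ {G : Type u} [Group G] [Finite G], Group.IsSolvable G →
    Nat.card G = n → ∀ P : Subgroup G, IsPGroup 2 P → Odd P.index → Param G P := by
  induction n using Nat.strong_induction_on with
  | _ n ih =>
    intro G _ _ hsol hn P hP hPi
    haveI := hsol
    rcases subsingleton_or_nontrivial G with h | h
    · exact param_of_subsingleton P
    · obtain ⟨L, hLn, hL0, hab, hcase⟩ := exists_normal_cases (G := G)
      haveI := hLn
      rcases hcase with hodd | ⟨h2, hL2⟩
      · exact param_of_odd L hab hodd hP hPi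
          (ih _ (hn ▸ card_quotient_lt' hL0) inferInstance rfl _ (hP.map _)
            (odd_index_map hPi _ (QuotientGroup.mk'_surjective L)))
      · have hLP := le_of_isPGroup_of_normal hPi hL2
        exact param_of_two h2 hLP hP hPi fun I hPI =>
          ih _ (hn ▸ card_quotient_lt hL0 I (hLP.trans hPI)) inferInstance rfl _
            ((hP.comap_of_injective I.subtype I.subtype_injective).map _)
            (odd_index_map (odd_index_subgroupOf hPI hPi) _ (QuotientGroup.mk'_surjective _))

/-- Real odd-degree characters of a solvable group and `N(P)`-classes of sign characters of `P`. -/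
theorem param [Group.IsSolvable G] (P : Subgroup G) (hP : IsPGroup 2 P) (hPi : Odd P.index) :
    Param G P :=
  param_aux _ inferInstance rfl P hP hPi

/-- The McKay-type count for real characters: `G` and `N(P)` have equally many. -/
theorem card_isRO_eq [Group.IsSolvable G] (P : Subgroup G) (hP : IsPGroup 2 P)
    (hPi : Odd P.index) :
    Nat.card {χ : IrrCharacter G // IsRO χ} =
      Nat.card {ψ : IrrCharacter (Subgroup.normalizer (P : Set G)) // IsRO ψ} := by
  set N := Subgroup.normalizer (P : Set G)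
  set P1 := P.subgroupOf N with hP1
  obtain ⟨F, hFs, hFe⟩ := param P hP hPi
  obtain ⟨F1, hF1s, hF1e⟩ := param P1 (hP.comap_of_injective N.subtype N.subtype_injective)
    (odd_index_subgroupOf Subgroup.le_normalizer hPi)
  let e : P1 ≃* P := Subgroup.subgroupOfEquivOfLe Subgroup.le_normalizer
  let t : RLin P → RLin P1 := fun ν => ⟨ν.1.comp e.toMonoidHom, fun x => ν.2 _⟩
  have ht : Function.Surjective t := fun μ => ⟨⟨μ.1.comp e.symm.toMonoidHom, fun x => μ.2 _⟩,
    RLin.ext' fun x => by
      show μ.1 (e.symm (e x)) = μ.1 x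
      rw [e.symm_apply_apply]⟩
  have hfus : ∀ ν ν', Fused (t ν) (t ν') ↔ Fused ν ν' := fun ν ν' => by
    constructor
    · rintro ⟨n, hn, h⟩
      refine ⟨n, n.2, RLin.ext' fun x => ?_⟩
      have h1 := congrArg (fun s => s.1 (e.symm x)) h
      calc ν'.1 x = ν'.1 (e (e.symm x)) := by rw [e.apply_symm_apply]
        _ = ν.1 (e (cj P1 n hn (e.symm x))) := h1
        _ = _ := congrArg ν.1 (Subtype.ext (by simp [e, Subgroup.subgroupOfEquivOfLe]))
    · rintro ⟨n, hn, rfl⟩
      refine ⟨⟨n, hn⟩, Subgroup.mem_normalizer_iff.2 fun y =>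
        Subgroup.mem_normalizer_iff.1 hn (y : G), RLin.ext' fun x => ?_⟩
      exact congrArg ν.1 (Subtype.ext (by simp [e, Subgroup.subgroupOfEquivOfLe]))
  have key : ∀ ν ν', F ν = F ν' ↔ F1 (t ν) = F1 (t ν') := fun ν ν' => by rw [hFe, hF1e, hfus]
  refine Nat.card_eq_of_bijective (fun χ => F1 (t (Function.surjInv hFs χ))) ⟨fun a b h => ?_, fun ψ => ?_⟩
  · have h1 := (key _ _).2 h
    rwa [Function.surjInv_eq hFs, Function.surjInv_eq hFs] at h1
  · obtain ⟨μ, hμ⟩ := hF1s ψ
    obtain ⟨ν, rfl⟩ := ht μ
    refine ⟨F ν, ?_⟩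
    rw [← hμ]
    exact (key _ _).1 (Function.surjInv_eq hFs _)

end Cfsg.Agent.OddDeg
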